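import Groth.Agent.CurveDualLib.DualField
import Groth.Agent.GenusZeroLib.PointDown
import Groth.Agent.GenusZeroLib.Pencil
import Groth.Agent.RRVanLib.GG
import Groth.Agent.MiscFlat6.AmpleGen
import Groth.Agent.HurwitzLib.SmoothCurve

/-!
# On a curve of positive genus `h⁰ ≤ deg`, and the differentials are globally generated
-/

set_option autoImplicit false
set_option linter.style.haveILetI false
set_option linter.unusedSectionVars false
set_option maxRecDepth 8000
universe u

open CategoryTheory CategoryTheory.Limits AlgebraicGeometry TopologicalSpace Opposite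

noncomputable section

namespace CurveH0Lib

open AmpleLib

theorem h0_le_deg_algClosed (K : Type u) [Field K] [IsAlgClosed K] {X : Scheme.{u}}
    [X.Over (Spec (CommRingCat.of K))] [IsProper (X ↘ Spec (CommRingCat.of K))] [IsIntegral X]
    (hdim : topologicalKrullDim X = 1) (hg : 1 ≤ Curv2.genus K X) (d : ℕ) :
    ∀ {L : X.Modules}, PicF.IsInvertible L → Curv2.deg K X L 1 = (d : ℤ) + 1 →
      Module.finrank K (Coh.HH X L 0) ≤ d + 1 := by
  induction d with
  | zero =>
    intro L hL hd
    by_contra h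
    haveI := GenusZeroLib.subsingleton_h1_of_pencil K hdim hL (by simpa using hd) (by omega)
    rw [Curv2.genus, Module.finrank_zero_of_subsingleton] at hg
    omega
  | succ d ih =>
    intro L hL hd
    obtain ⟨x, -, hxc, hxd, hxr⟩ := GenusZeroLib.exists_good_point (k := K) hdim (⊤ : X.Opens)
      ⟨genericPoint X, trivial⟩
    obtain ⟨L', hL', hd', -, -, hup, -, -⟩ := GenusZeroLib.exists_down_rational (k := K) hdim hxc hxr hL
    have := ih hL' (by rw [hd', hd]; push_cast; ring)
    omega

variable (k : Type u) [Field k] {X : Scheme.{u}} [X.Over (Spec (CommRingCat.of k))]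
  [IsProper (X ↘ Spec (CommRingCat.of k))] [Smooth (X ↘ Spec (CommRingCat.of k))]
  [GeometricallyConnected (X ↘ Spec (CommRingCat.of k))] (hdim : topologicalKrullDim X = 1)

attribute [local instance] VeryAmpleLib.bcOver

include hdim in
theorem h0_le_deg (hg : 1 ≤ Curv2.genus k X) {L : X.Modules} (hL : PicF.IsInvertible L)
    (hd : 1 ≤ Curv2.deg k X L 1) :
    (Module.finrank k (Coh.HH X L 0) : ℤ) ≤ Curv2.deg k X L 1 := by
  obtain ⟨_, _, _, _, _, hd'⟩ := CurveDualLib.bcData k X hdim
  obtain ⟨d, hd₀⟩ : ∃ d : ℕ, Curv2.deg k X L 1 = (d : ℤ) + 1 := ⟨(Curv2.deg k X L 1 - 1).toNat, by omega⟩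
  let L' := (Scheme.Modules.pullback (Curv2.bcFst k X (AlgebraicClosure k))).obj L
  have h := h0_le_deg_algClosed (AlgebraicClosure k) hd'
    (by rw [VeryAmpleLib.genus_bc k X (AlgebraicClosure k)]; exact hg) d (L := L')
    (AmpleDevLib.isInvertible_pb _ hL) (by rw [← hd₀]; exact VeryAmpleLib.deg_bc k X (AlgebraicClosure k) hL)
  have he : Module.finrank k (Coh.HH X L 0) = Module.finrank (AlgebraicClosure k)
      (Coh.HH (Curv2.bc k X (AlgebraicClosure k)) L' 0) := CurveDualLib.finrank_bc k X hL (Iso.refl _) 0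
  omega

include hdim in
/-- The differentials of a curve of positive genus are globally generated. -/
theorem omega_isGloballyGenerated (hg : 1 ≤ Curv2.genus k X) :
    Curv2.IsGloballyGenerated (Omega.sheaf (X ↘ Spec (CommRingCat.of k))) := by
  haveI := (CurveDualLib.bcData k X hdim).int
  haveI := (CurveDualLib.bcData k X hdim).gi
  obtain ⟨Ω, hΩdef⟩ : ∃ Ω : X.Modules, Ω = Omega.sheaf (X ↘ Spec (CommRingCat.of k)) := ⟨_, rfl⟩
  have hΩ : PicF.IsInvertible Ω := hΩdef ▸ CurveDualLib.omega_invertible_field k X hdim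
  have hh : Module.finrank k (Coh.HH X Ω 0) = Curv2.genus k X := hΩdef ▸ CurveDualLib.h0_omega k X hdim
  have hdg : Curv2.deg k X Ω 1 = 2 * (Curv2.genus k X : ℤ) - 2 := hΩdef ▸ CurveDualLib.deg_omega k X hdim
  rw [← hΩdef]
  haveI := CurvLib.isNoetherian k (X := X)
  letI := GenusZeroLib.kmod k Ω
  haveI := CurvLib.finite_HH (k := k) (CurvLib.isCoh_of_isInvertible hΩ) 0
  haveI : Module.Finite k Γ(Ω, ⊤) := Module.Finite.equiv (GenusZeroLib.e0k k Ω)
  haveI : Nontrivial Γ(Ω, ⊤) := Module.nontrivial_of_finrank_pos (R := k) (by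
    rw [← (GenusZeroLib.e0k k Ω).finrank_eq, hh]; omega)
  refine MiscFlat6.isGloballyGenerated_of_genSections hΩ fun P => ?_
  by_contra hne
  push Not at hne
  obtain ⟨σ, hσ⟩ := exists_ne (0 : Γ(Ω, ⊤))
  have hP : IsClosed ({P} : Set X) :=
    (GenusZeroLib.finite_compl_genSet k hdim hΩ hσ).2 P (hne σ)
  haveI : IsDiscreteValuationRing (X.presheaf.stalk P) := HurwitzLib.dvr_stalk_closed (k := k) hdim hP
  obtain ⟨L, q, hL, hq, hd, hrange⟩ := GenusZeroLib.exists_twist_down (k := k) hdim hP hΩ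
  letI := GenusZeroLib.kmod k L
  haveI := CurvLib.finite_HH (k := k) (CurvLib.isCoh_of_isInvertible hL) 0
  let f : Γ(L, ⊤) →ₗ[k] Γ(Ω, ⊤) :=
    { toFun := fun t => q.app ⊤ t
      map_add' := fun a c => map_add (q.app ⊤).hom a c
      map_smul' := fun c t => Scheme.Modules.Hom.app_smul q (GenusZeroLib.ρ k (X := X) c) t }
  haveI : Mono q := CurvLib.mono_of_ne_zero hL hΩ hq
  have hf : Function.Bijective f :=
    ⟨QCohLib.app_injective_of_mono q ⊤, fun τ => (hrange ⊤ τ).mpr fun _ => hne τ⟩
  have hL0 : Module.finrank k (Coh.HH X L 0) = Curv2.genus k X := by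
    rw [← hh, (GenusZeroLib.e0k k L).finrank_eq, (GenusZeroLib.e0k k Ω).finrank_eq]
    exact (LinearEquiv.ofBijective f hf).finrank_eq
  obtain ⟨eL⟩ := MiscFlat6.nonempty_dualIso hL
  let M := CohB1.tensorMod (MiscFlat6.dual L) Ω
  have hM : PicF.IsInvertible M := HilbPolyLib.isInvertible_tensor (MiscFlat6.dual_isInvertible hL) hΩ
  have e : CohB1.tensorMod L M ≅ Ω :=
    (HilbPolyLib.assocIso L (MiscFlat6.dual L) Ω).symm ≪≫ HilbPolyLib.congrLeft eL Ω ≪≫ HilbPolyLib.unitLeft Ω
  have h1 := CurveDualLib.h1_eq_h0 k X hdim hL hM (e ≪≫ eqToIso hΩdef)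
  have hde := GenusZeroLib.deg_tensor k hdim hL hM
  rw [CurvLib.deg_congr (k := k) e 1, hdg, hd, hdg] at hde
  have hres : letI : Algebra k (X.residueField P) := Curv2.resAlgebra k X P
      0 < Module.finrank k (X.residueField P) := by
    letI : Algebra k (X.residueField P) := Curv2.resAlgebra k X P
    haveI : Module.Finite k (X.residueField P) := HurwitzLib.finite_residueField (k := k) hP
    exact Module.finrank_pos
  have hle := h0_le_deg k hdim hg hM (by omega)
  have hc := CurvLib.deg_curve (k := k) hdim L (FibVALib.finrank_h0_structure k X hdim)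
  rw [hd, hdg] at hc
  omega

end CurveH0Lib

end
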