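import Groth.Agent.GenusZeroLib.PointDown

/-!
# Regular curves over algebraically closed fields are smooth
-/

set_option autoImplicit false
set_option linter.style.haveILetI false
universe u

open CategoryTheory AlgebraicGeometry Opposite

noncomputable section

namespace CurveH0Lib

theorem smooth_of_regular (k : Type u) [Field k] [IsAlgClosed k] {X : Scheme.{u}} (f : X ⟶ Spec (CommRingCat.of k))
    [LocallyOfFiniteType f] (hreg : ∀ x : X, IsRegularLocalRing (X.presheaf.stalk x)) : Smooth f := by
  haveI : LocallyOfFinitePresentation f := LocallyOfFinitePresentation.iff_locallyOfFiniteType.2 inferInstance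
  haveI : IsIntegral (Spec (CommRingCat.of k)) := inferInstance
  haveI : PerfectField (Spec (CommRingCat.of k)).functionField := by
    let K := (Spec (CommRingCat.of k)).functionField
    letI : Algebra k K := (((Spec (CommRingCat.of k)).presheaf.germ ⊤ (genericPoint (Spec (CommRingCat.of k))) trivial).hom.comp
      (Scheme.ΓSpecIso (CommRingCat.of k)).inv.hom).toAlgebra
    haveI : Algebra.IsAlgebraic k K := ⟨fun t => by
      obtain ⟨U, hp, s, rfl⟩ := TopCat.Presheaf.exists_germ_eq (F := (Spec (CommRingCat.of k)).presheaf) t
      obtain rfl : U = ⊤ := eq_top_iff.mpr fun q _ => (Subsingleton.elim (α := PrimeSpectrum k) _ q) ▸ hp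
      convert isAlgebraic_algebraMap (R := k) (A := K) ((Scheme.ΓSpecIso (CommRingCat.of k)).hom s) using 1
      simp [RingHom.algebraMap_toAlgebra, K]⟩
    exact Algebra.IsAlgebraic.perfectField (K := k)
  refine Scheme.Hom.smoothLocus_eq_top_iff.mp (eq_top_iff.mpr fun x _ => ?_)
  exact GeomRedFieldLib.mem_smoothLocus_of_regular f x (Subsingleton.elim (α := PrimeSpectrum k) _ _) (hreg x)

end CurveH0Lib

end
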