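import Groth.Agent.CurveH0Lib.Nine

/-!
# Clifford index one and three in genus nine
-/

set_option autoImplicit false
set_option linter.unusedSectionVars false
universe u v

open FunFld
open Groth.Agent.FFLib hiding degHom

noncomputable section

namespace CurveH0Lib.Nine

variable {k : Type u} {K : Type v} [Field k] [IsAlgClosed k] [Field K] [Algebra k K]
  (hK : FunFld.IsFunctionField k K) {C : Divisor k K} (hC : IsCanonical k K C) (hg : genus k K = 9)

include hK hC hg in
theorem rr (D : Divisor k K) : (ell D : ℤ) = D.deg - 8 + ell (C - D) := by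
  have := riemann_roch hK hC D
  rw [hg] at this
  omega

include hK hC hg in
theorem small_pencil {e : ℤ} (hmin : ∀ D : Divisor k K, 2 ≤ ell D → 2 ≤ ell (C - D) → 2 * (ell D : ℤ) + e ≤ D.deg)
    {A : Divisor k K} (hA : A.deg < 4 + e) (he : e ≤ 1) : ell A ≤ 1 := by
  by_contra h
  have := rr hK hC hg A
  have := hmin A (by omega) (by omega)
  omega

/-- A function of exact order. -/
theorem exists_exact {D : Divisor k K} {P : Place k K} (hK : FunFld.IsFunctionField k K)
    (h : ell (D - Finsupp.single P 1) < ell D) :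
    ∃ z : K, z ∈ L D ∧ P.1 z = WithZero.exp (D P) ∧ z ∉ L (D - Finsupp.single P 1) := by
  classical
  haveI := Groth.Agent.S10976.result k K hK D
  haveI := Groth.Agent.S10976.result k K hK (D - Finsupp.single P 1)
  obtain ⟨z, hz, hz'⟩ : ∃ z ∈ L D, z ∉ L (D - Finsupp.single P 1) := by
    by_contra hne
    push Not at hne
    exact absurd (Submodule.finrank_mono hne) (not_le.2 h)
  refine ⟨z, hz, ?_, hz'⟩
  have hz0 : z ≠ 0 := fun h => hz' (h ▸ zero_mem _)
  obtain ⟨Q, hQ⟩ : ∃ Q : Place k K, Q.ord z < -((D - Finsupp.single P 1 : Divisor k K) Q) := by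
    by_contra hne
    push Not at hne
    exact hz' fun Q => (v_le_exp_iff Q hz0 _).2 (hne Q)
  have hQ' := (v_le_exp_iff Q hz0 _).1 (hz Q)
  rw [Finsupp.sub_apply, Finsupp.single_apply] at hQ
  have hPQ : P = Q := by
    by_contra hPQ
    rw [if_neg hPQ] at hQ
    omega
  subst hPQ
  rw [if_pos rfl] at hQ
  exact (v_eq_exp_iff P hz0 _).2 (by omega)

include hK in
/-- Two exact orders give two more quadrics. -/
theorem ell_two_nsmul_add_two {D : Divisor k K} {P : Place k K} (h1 : ell (D - Finsupp.single P 1) < ell D)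
    (h2 : ell (D - Finsupp.single P 1 - Finsupp.single P 1) < ell (D - Finsupp.single P 1)) :
    ell (2 • (D - Finsupp.single P 1)) + 2 ≤ ell (2 • D) := by
  classical
  obtain ⟨z₁, hz₁, hv₁, -⟩ := exists_exact hK h1
  obtain ⟨z₂, hz₂, hv₂, -⟩ := exists_exact hK h2
  haveI := Groth.Agent.S10976.result k K hK (2 • D)
  haveI := Groth.Agent.S10976.result k K hK (D + (D - Finsupp.single P 1))
  have e1 : L (2 • (D - Finsupp.single P 1)) < L (D + (D - Finsupp.single P 1)) := by
    refine lt_of_le_of_ne (L_mono fun Q => ?_) fun h => ?_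
    · simp only [two_nsmul, Finsupp.add_apply, Finsupp.sub_apply, Finsupp.single_apply]
      split_ifs <;> omega
    · have := (h ▸ CurveH0Lib.mul_mem_L hz₁ hz₂ : z₁ * z₂ ∈ L (2 • (D - Finsupp.single P 1))) P
      rw [map_mul, hv₁, hv₂, ← WithZero.exp_add, WithZero.exp_le_exp] at this
      simp only [two_nsmul, Finsupp.add_apply, Finsupp.sub_apply, Finsupp.single_eq_same] at this
      omega
  have e2 : L (D + (D - Finsupp.single P 1)) < L (2 • D) := by
    refine lt_of_le_of_ne (L_mono fun Q => ?_) fun h => ?_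
    · simp only [two_nsmul, Finsupp.add_apply, Finsupp.sub_apply, Finsupp.single_apply]
      split_ifs <;> omega
    · have := (h ▸ (two_nsmul D ▸ CurveH0Lib.mul_mem_L hz₁ hz₁) : z₁ * z₁ ∈ L (D + (D - Finsupp.single P 1))) P
      rw [map_mul, hv₁, ← WithZero.exp_add, WithZero.exp_le_exp] at this
      simp only [Finsupp.add_apply, Finsupp.sub_apply, Finsupp.single_eq_same] at this
      omega
  have := Submodule.finrank_lt_finrank_of_lt e1
  have := Submodule.finrank_lt_finrank_of_lt e2
  simp only [ell]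
  omega

include hK in
/-- The base point free pencil trick. -/
theorem pencil_trick {D H : Divisor k K} (hD : 2 ≤ ell D) (hbpf : ∀ P, ell (D - Finsupp.single P 1) < ell D) (h2 : ell D = 2) :
    2 * ell H ≤ ell (D + H) + ell (H - D) := by
  classical
  haveI := Groth.Agent.S10976.result k K hK D
  haveI := Groth.Agent.S10976.result k K hK H
  haveI := Groth.Agent.S10976.result k K hK (D + H)
  haveI := Groth.Agent.S10976.result k K hK (H - D)
  let b : Module.Basis (Fin 2) k (L D) := Module.finBasisOfFinrankEq k (L D) h2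
  let f : L H × L H →ₗ[k] L (D + H) :=
    { toFun := fun x => ⟨(b 0).1 * x.1.1 + (b 1).1 * x.2.1,
        add_mem (CurveH0Lib.mul_mem_L (b 0).2 x.1.2) (CurveH0Lib.mul_mem_L (b 1).2 x.2.2)⟩
      map_add' := fun x y => Subtype.ext (by simp; ring)
      map_smul' := fun c x => Subtype.ext (by simp [Algebra.smul_def]; ring) }
  have hs0 : (b 0).1 ≠ 0 := fun h => b.ne_zero 0 (Subtype.ext h)
  have hker : ∀ x : LinearMap.ker f, x.1.2.1 / (b 0).1 ∈ L (H - D) := fun x => by
    rcases eq_or_ne x.1.2.1 0 with h0 | h0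
    · rw [h0, zero_div]; exact zero_mem _
    have hx : (b 0).1 * x.1.1.1 + (b 1).1 * x.1.2.1 = 0 := congrArg Subtype.val (LinearMap.mem_ker.1 x.2)
    refine (mem_L_iff (div_ne_zero h0 hs0)).2 fun P => ?_
    obtain ⟨z, hz, hv, hz'⟩ := exists_exact hK (hbpf P)
    have hz0 : z ≠ 0 := fun h => hz' (h ▸ zero_mem _)
    obtain ⟨a, c, rfl⟩ : ∃ a c : k, z = algebraMap k K a * (b 0).1 + algebraMap k K c * (b 1).1 := by
      refine ⟨b.repr ⟨z, hz⟩ 0, b.repr ⟨z, hz⟩ 1, ?_⟩
      have h := b.sum_repr ⟨z, hz⟩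
      rw [Fin.sum_univ_two] at h
      have h' := congrArg Subtype.val h.symm
      rw [Submodule.coe_add, Submodule.coe_smul, Submodule.coe_smul, Algebra.smul_def, Algebra.smul_def] at h'
      exact h'
    set φ := x.1.2.1 / (b 0).1
    have hφ : x.1.2.1 = φ * (b 0).1 := (div_mul_cancel₀ _ hs0).symm
    have h1 : x.1.1.1 = -(φ * (b 1).1) := by
      refine mul_left_cancel₀ hs0 ?_
      rw [hφ] at hx
      linear_combination hx
    have hmem : φ * (algebraMap k K a * (b 0).1 + algebraMap k K c * (b 1).1) ∈ L H := by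
      have h2 : φ * (algebraMap k K a * (b 0).1 + algebraMap k K c * (b 1).1) =
          a • x.1.2.1 - c • x.1.1.1 := by
        rw [Algebra.smul_def, Algebra.smul_def, hφ, h1]; ring
      rw [h2]
      exact sub_mem (Submodule.smul_mem _ _ x.1.2.2) (Submodule.smul_mem _ _ x.1.1.2)
    have hφ0 : φ ≠ 0 := div_ne_zero h0 hs0
    have h3 := (mem_L_iff (mul_ne_zero hφ0 hz0)).1 hmem P
    rw [ord_mul P hφ0 hz0, (v_eq_exp_iff P hz0 _).1 hv] at h3
    rw [Finsupp.sub_apply]
    omega
  let g : LinearMap.ker f →ₗ[k] L (H - D) :=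
    { toFun := fun x => ⟨x.1.2.1 / (b 0).1, hker x⟩
      map_add' := fun x y => Subtype.ext (by simp [add_div])
      map_smul' := fun c x => Subtype.ext (by simp [Algebra.smul_def, mul_div_assoc]) }
  have hg' : Function.Injective g := by
    rw [injective_iff_map_eq_zero]
    intro x hx
    have h0 : x.1.2.1 = 0 := (div_eq_zero_iff.1 (congrArg Subtype.val hx)).resolve_right hs0
    have hx' : (b 0).1 * x.1.1.1 + (b 1).1 * x.1.2.1 = 0 := congrArg Subtype.val (LinearMap.mem_ker.1 x.2)
    rw [h0, mul_zero, add_zero] at hx'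
    exact Subtype.ext (Prod.ext (Subtype.ext ((mul_eq_zero.1 hx').resolve_left hs0)) (Subtype.ext h0))
  have h5 := LinearMap.finrank_le_finrank_of_injective hg'
  have h6 := LinearMap.finrank_range_add_finrank_ker f
  have h7 := Submodule.finrank_le (LinearMap.range f)
  rw [Module.finrank_prod] at h6
  simp only [ell]
  omega

variable [NeZero (2 : k)]

include hK hC hg in
/-- Clifford index one in genus nine means trigonal. -/
theorem exists_g13 (hmin : ∀ D : Divisor k K, 2 ≤ ell D → 2 ≤ ell (C - D) → 2 * (ell D : ℤ) + (-1) ≤ D.deg)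
    {D₀ : Divisor k K} (h0 : 2 ≤ ell D₀) (h1 : 2 ≤ ell (C - D₀)) (he : D₀.deg = 2 * (ell D₀ : ℤ) - 1) :
    ∃ N : Divisor k K, N.deg = 3 ∧ 2 ≤ ell N := by
  classical
  by_contra hno
  push Not at hno
  have hp : ∀ A : Divisor k K, A.deg ≤ 3 → ell A ≤ 1 := fun A hA => by
    rcases lt_or_eq_of_le hA with h | h
    · exact small_pencil hK hC hg hmin (e := -1) (by omega) (by norm_num)
    · have := hno A h
      omega
  have no25 : ∀ E : Divisor k K, E.deg = 5 → ell E ≤ 2 := fun E hE => by
    by_contra h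
    have := six_le_ell hK (E := E) (by omega) hp (by omega)
    have := rr hK hC hg (2 • E)
    have h2 : (2 • E).deg = 10 := by rw [deg_nsmul, hE]; norm_num
    have := hmin (2 • E) (by omega) (by omega)
    omega
  obtain ⟨D, hl, hd, hs⟩ : ∃ D : Divisor k K, ell D ≤ 4 ∧ D.deg = 2 * (ell D : ℤ) - 1 ∧ 2 ≤ ell D := by
    rcases le_or_gt (ell D₀) 4 with h | h
    · exact ⟨D₀, h, he, h0⟩
    · have hr := rr hK hC hg D₀
      have hdC := (canonical_ell_deg hK hC).2
      rw [hg] at hdC
      refine ⟨C - D₀, by omega, ?_, h1⟩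
      rw [deg_sub, hdC]
      omega
  rcases (show ell D = 2 ∨ ell D = 3 ∨ ell D = 4 by omega) with h | h | h
  · exact absurd (hno D (by omega)) (by omega)
  · exact absurd (no25 D (by omega)) (by omega)
  · obtain ⟨P, -, -⟩ :=
      (Groth.Agent.S11004.result k K hK (Groth.Agent.S11000.result k K hK)).exists_notMem_finset (∅ : Finset (Place k K))
    have hd1 : Divisor.deg (Finsupp.single P (1 : ℤ)) = 1 := by
      rw [deg_single, deg_eq_one hK]; norm_num
    have hd6 : (D - Finsupp.single P 1).deg = 6 := by rw [deg_sub, hd1, hd, h]; norm_num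
    have hD1 : ell (D - Finsupp.single P 1) < ell D := by
      by_contra h'
      have := rr hK hC hg (D - Finsupp.single P 1)
      have := hmin (D - Finsupp.single P 1) (by omega) (by omega)
      omega
    have hle := ell_sub_le hK.1 (D - Finsupp.single P 1) D (fun Q => by
      simp only [Finsupp.sub_apply, Finsupp.single_apply]; split_ifs <;> omega)
    rw [hd6] at hle
    have hD2 : ell (D - Finsupp.single P 1 - Finsupp.single P 1) < ell (D - Finsupp.single P 1) := by
      have := no25 (D - Finsupp.single P 1 - Finsupp.single P 1) (by rw [deg_sub, hd6, hd1]; norm_num)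
      omega
    have := six_le_ell hK (E := D - Finsupp.single P 1) (by omega) hp (by omega)
    have := ell_two_nsmul_add_two hK hD1 hD2
    have h14 : (2 • D).deg = 14 := by rw [deg_nsmul, hd, h]; norm_num
    have := rr hK hC hg (2 • D)
    have := hmin (2 • D) (by omega) (by omega)
    omega

variable (hmin : ∀ D : Divisor k K, 2 ≤ ell D → 2 ≤ ell (C - D) → 2 * (ell D : ℤ) + 1 ≤ D.deg)

include hK hC hg hmin in
theorem h0_diff {D H : Divisor k K} (hdD : D.deg = 5) (hlD : ell D = 2)
    (hbpf : ∀ P, ell (D - Finsupp.single P 1) < ell D) (hdH : H.deg = 7) (hlH : ell H = 3) : ell (H - D) = 1 := by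
  have hle : ell (H - D) ≤ 1 := small_pencil hK hC hg hmin (by rw [deg_sub, hdH, hdD]; norm_num) le_rfl
  by_contra hne
  have := pencil_trick hK (H := H) (by omega) hbpf hlD
  have h12 : (D + H).deg = 12 := by rw [deg_add, hdH, hdD]; norm_num
  have := rr hK hC hg (D + H)
  have := hmin (D + H) (by omega) (by omega)
  omega

include hK hC hg hmin in
theorem h0_multiples {D : Divisor k K} (hdD : D.deg = 5) (hlD : ell D = 2)
    (hbpf : ∀ P, ell (D - Finsupp.single P 1) < ell D) :
    (ell (2 • D) = 3 ∨ ell (2 • D) = 4) ∧ (ell (3 • D) = 7 ∨ ell (3 • D) = 8) ∧ (ell (2 • D) = 3 → ell (3 • D) = 7) := by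
  have h2 := succ_le_ell_nsmul hK (N := D) (by omega) 2
  have hd10 : (2 • D).deg = 10 := by rw [deg_nsmul, hdD]; norm_num
  have hd15 : (3 • D).deg = 15 := by rw [deg_nsmul, hdD]; norm_num
  have h4 : ell (2 • D) ≤ 4 := by
    by_contra h
    have := rr hK hC hg (2 • D)
    have := hmin (2 • D) (by omega) (by omega)
    omega
  have hr3 := rr hK hC hg (3 • D)
  have hdC := (canonical_ell_deg hK hC).2
  rw [hg] at hdC
  have h1 : ell (C - 3 • D) ≤ 1 := small_pencil hK hC hg hmin (by rw [deg_sub, hdC, hd15]; norm_num) le_rfl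
  refine ⟨by omega, by omega, fun h3 => ?_⟩
  by_contra hne
  have hr2 := rr hK hC hg (2 • D)
  have hh := CurveH0Lib.ell_add_ell_le hK (D := C - 3 • D) (E := D) (by omega) (by omega)
  rw [show C - 3 • D + D = C - 2 • D by abel] at hh
  omega

include hK hC hg hmin in
theorem h0_two_pencils {D₁ D₂ : Divisor k K} (hd₁ : D₁.deg = 5) (hl₁ : ell D₁ = 2) (hd₂ : D₂.deg = 5) (hl₂ : ell D₂ = 2)
    (hbpf : ∀ P, ell (D₁ - Finsupp.single P 1) < ell D₁)
    (hne : ∀ f : K, f ≠ 0 → D₂ ≠ D₁ + FunFld.div k f) : ell (D₁ + D₂) = 4 := by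
  have h0 : ell (D₂ - D₁) = 0 := by
    by_contra h
    obtain ⟨z, hz, he⟩ := exists_effective_of_ell_pos hK.1 (Nat.pos_of_ne_zero h)
    have h00 := eq_zero_of_deg_eq_zero hK he (by rw [deg_add, deg_sub, deg_div hK.1, hd₁, hd₂]; norm_num)
    refine hne z⁻¹ (inv_ne_zero hz) ?_
    rw [div_inv hK.1]
    linear_combination (norm := abel) h00
  have := pencil_trick hK (H := D₂) (by omega) hbpf hl₁
  have hd10 : (D₁ + D₂).deg = 10 := by rw [deg_add, hd₁, hd₂]; norm_num
  by_contra hne'
  have := rr hK hC hg (D₁ + D₂)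
  have := hmin (D₁ + D₂) (by omega) (by omega)
  omega

end CurveH0Lib.Nine

end
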