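import Groth.Agent.CurveH0Lib.CliffordEq
import Groth.Agent.ZetaCurveLib.Pic

/-!
# Reduced degrees of invertible subsheaves
-/

set_option autoImplicit false
set_option linter.style.haveILetI false
set_option linter.unusedSectionVars false
universe u

open CategoryTheory CategoryTheory.Limits AlgebraicGeometry
open FunFld CurveDualLib DevissLib

noncomputable section

namespace CurveH0Lib.LinStable

attribute [local instance] algFF

variable {k : Type u} [Field k] [IsAlgClosed k] {X : Scheme.{u}} [X.Over (Spec (CommRingCat.of k))] [IsIntegral X]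
  [IsProper (X ↘ Spec (CommRingCat.of k))] [Smooth (X ↘ Spec (CommRingCat.of k))]
  (hdim : topologicalKrullDim X = 1)

include hdim in
theorem h0_eq_ell {L : X.Modules} {D : Divisor k X.functionField} (h : ZetaCurveLib.HasDiv hdim L D) :
    Module.finrank k (Coh.HH X L 0) = ell D := by
  obtain ⟨hL, σ, hσ, hD⟩ := h
  exact finrank_h0_eq_ell hdim hL hσ hD

include hdim in
/-- The canonical module has a canonical divisor. -/
theorem exists_canonical_hasDiv : ∃ C : Divisor k X.functionField,
    ZetaCurveLib.HasDiv hdim (Omega.sheaf (X ↘ Spec (CommRingCat.of k))) C ∧ IsCanonical k X.functionField C := by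
  obtain ⟨C, σ, hσ, hC, hcan⟩ := exists_canonical (k := k) hdim
  exact ⟨C, ⟨omega_invertible hdim, σ, hσ, hC⟩, hcan⟩

include hdim in
/-- An invertible proper subsheaf has smaller degree. -/
theorem deg_lt_of_mono {L M : X.Modules} (hL : PicF.IsInvertible L) (hM : PicF.IsInvertible M) (ι : M ⟶ L)
    [Mono ι] (hι : ¬ IsIso ι) : Curv2.deg k X M 1 < Curv2.deg k X L 1 := by
  have hne : ι ≠ 0 := fun h => by
    haveI : Mono (0 : M ⟶ L) := h ▸ (inferInstance : Mono ι)
    have h1 := Limits.IsZero.of_mono_zero M L
    have h2 := CurveVBLib.genRank_of_isZero h1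
    rw [CurveVBLib.genRank_eq (CurvLib.locFree_of_isInvertible hM)] at h2
    exact one_ne_zero h2
  by_contra h
  refine hι (CurvLib.isIso_of_euler_le (k := k) hM hL hdim hne ?_)
  simp only [Curv2.deg] at h
  omega

include hdim in
/-- Riemann–Roch and Clifford for a divisor. -/
theorem estimate {C : Divisor k X.functionField} (hC : IsCanonical k X.functionField C)
    (D : Divisor k X.functionField) (hD : 1 ≤ ell D) :
    (ell D : ℤ) = D.deg + 1 - Curv2.genus k X + ell (C - D) ∧
      (1 ≤ ell (C - D) → ell D + ell (C - D) ≤ Curv2.genus k X + 1) := by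
  have hK := isFunctionField (k := k) (X := X) hdim
  refine ⟨?_, fun h => genus_eq (k := k) hdim ▸ ell_add_ell_sub_le hK hC hD h⟩
  have := Groth.Agent.FFLib.riemann_roch hK hC D
  rw [genus_eq (k := k) hdim] at this
  omega

/-- A section of `B` embeds `A` in `A ⊗ B`. -/
theorem exists_mono {X : Scheme.{u}} [IsIntegral X] [IsNoetherian X] {A B M : X.Modules} (hA : PicF.IsInvertible A)
    (hB : PicF.IsInvertible B) (e : CohB1.tensorMod A B ≅ M) (hs : Nontrivial (Coh.HH X B 0)) :
    ∃ φ : A ⟶ M, Mono φ := by
  obtain ⟨s, hs⟩ := CurvLib.exists_hom_ne_zero (L := B) hs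
  haveI := CurvLib.mono_of_ne_zero CurvLib.isInvertible_structureModule hB hs
  have hS : (ShortComplex.mk s (cokernel.π s) (cokernel.condition s)).ShortExact :=
    { exact := ShortComplex.exact_of_g_is_cokernel _ (cokernelIsCokernel s) }
  have hm : Mono ((CurvLib.tensorLeft' A).map s) := (HilbPolyLib.shortExact_tensor hA hS).mono_f
  exact ⟨(PicPnLib.unitRight A).inv ≫ (CurvLib.tensorLeft' A).map s ≫ e.hom,
    @mono_comp _ _ _ _ _ _ inferInstance _ (@mono_comp _ _ _ _ _ _ hm _ inferInstance)⟩

end CurveH0Lib.LinStable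

end
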