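import Groth.Agent.CurveH0Lib.Twist
import Groth.Agent.CurveH0Lib.Smooth
import Groth.Agent.ZetaCurveLib.Pic
import Groth.Agent.FFLib.DegOne
import Groth.Agent.HilbPolyLib.Ample
import Groth.Agent.S11016
import Groth.Agent.S10990
import Groth.Agent.S10992

/-!
# Divisors of point ideals; two-point twists and Riemann-Roch
-/

set_option autoImplicit false
set_option linter.style.haveILetI false
set_option linter.unusedSectionVars false
universe u

open CategoryTheory CategoryTheory.Limits AlgebraicGeometry TopologicalSpace Opposite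
open DevissLib CurveDualLib
open AmpleLib (GenAt)

noncomputable section

namespace CurveH0Lib

variable {k : Type u} [Field k] [IsAlgClosed k] {X : Scheme.{u}} [X.Over (Spec (CommRingCat.of k))] [IsIntegral X]
  [Smooth (X ↘ Spec (CommRingCat.of k))] [IsProper (X ↘ Spec (CommRingCat.of k))]
  (hdim : topologicalKrullDim X = 1)

attribute [local instance] algFF

include hdim in
/-- The ideal of a point has divisor minus that point. -/
theorem hasDiv_ptIdeal {P : X} (hP : IsClosed ({P} : Set X)) :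
    ZetaCurveLib.HasDiv (k := k) hdim (ClSub.idealMod (GenusZeroLib.ptIdeal hP))
      (-Finsupp.single (ptPlace (k := k) hdim hP) 1) := by
  classical
  haveI := HurwitzLib.dvr_stalk_closed (k := k) hdim hP
  have hO : PicF.IsInvertible (Coh.structureModule X) := CurvLib.isInvertible_structureModule
  obtain ⟨L, q, hL, hq, hd, hrange⟩ := GenusZeroLib.exists_twist_down (k := k) hdim hP hO
  obtain ⟨e⟩ := nonempty_iso_twist_down (k := k) hdim hP hL hO q hq hd hrange
  refine ZetaCurveLib.HasDiv.of_iso (hdim := hdim)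
    (e.symm ≪≫ HilbPolyLib.unitLeft (ClSub.idealMod (GenusZeroLib.ptIdeal hP)))
    (HilbPolyLib.isInvertible_of_iso (e.symm ≪≫ HilbPolyLib.unitLeft _) hL) ?_
  let W : X.Opens := ⟨_, hP.isOpen_compl⟩
  obtain ⟨t, ht⟩ := (hrange W (1 : Γ(X, W))).2 fun h => absurd rfl h
  have hgen : ∀ (y : X) (hy : y ∈ W), IsGen L y (gm L y hy t) := by
    intro y hy
    obtain ⟨U, e₁, hyU, he⟩ := TwistLib.exists_genOn hL y
    obtain ⟨b, hb⟩ := (he.genAt hyU).2 (gm L y hy t)
    obtain ⟨a, ha⟩ := ((AmpleLib.one_genOn (X := X) W).genAt hy).2 (((St y).map q).hom (gm L y hyU e₁))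
    dsimp only at hb ha
    have h1 : ((b * a) : X.presheaf.stalk y) • gm (Coh.structureModule X) y hy (1 : Γ(X, W)) =
        (1 : X.presheaf.stalk y) • gm (Coh.structureModule X) y hy (1 : Γ(X, W)) := by
      rw [← smul_smul, one_smul]
      refine (congrArg (b • ·) ha).trans ?_
      refine (((St y).map q).hom.map_smul b _).symm.trans ?_
      exact (congrArg ((St y).map q).hom hb).trans ((gm_app q y hy t).trans (congrArg (gm _ y hy) ht))
    have hu : IsUnit b := IsUnit.of_mul_eq_one a (((AmpleLib.one_genOn (X := X) W).genAt hy).1 h1)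
    rw [← hb]
    exact isGen_unit_smul (he.genAt hyU) hu
  have hη : genericPoint X ∈ W := fun h => GenusZeroLib.ne_genericPoint_of_isClosed hdim hP (Set.mem_singleton_iff.1 h).symm
  obtain ⟨D, hD⟩ := exists_isDiv (k := k) hdim hL (hgen _ hη)
  have hD' : ∀ Q, Q ≠ ptPlace (k := k) hdim hP → D Q = 0 := by
    intro Q hQ
    obtain ⟨y, hy, rfl⟩ := exists_point (k := k) hdim Q
    have hyP : y ∈ W := fun h => hQ (by obtain rfl := (Set.mem_singleton_iff.1 h); rfl)
    rw [← IsDiv.spec hdim hL hD hy (hgen y hyP) (one_ne_zero (α := X.functionField))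
      (by rw [sp_gm]; exact (one_smul _ _).symm)]
    simp [FunFld.Place.ord]
  have hDs : D = Finsupp.single (ptPlace (k := k) hdim hP) (D (ptPlace hdim hP)) := by
    ext Q
    by_cases hQ : Q = ptPlace (k := k) hdim hP
    · subst hQ; simp
    · rw [hD' Q hQ, Finsupp.single_eq_of_ne (fun h => hQ h)]
  have hdeg := deg_eq_deg hdim hL (hgen _ hη) hD
  have hK := isFunctionField (k := k) (X := X) hdim
  rw [hd, hDs, FunFld.Divisor.deg, Finsupp.sum_single_index (by simp), ZetaCurveLib.finrank_residueField hdim hP,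
    Groth.Agent.FFLib.deg_eq_one hK] at hdeg
  have h1 : D (ptPlace (k := k) hdim hP) = -1 := by
    simp only [Curv2.deg] at hdeg
    push_cast at hdeg
    omega
  refine ⟨hL, _, hgen _ hη, ?_⟩
  rwa [hDs, h1, Finsupp.single_neg] at hD

include hdim in
/-- Sections of a twist by two points. -/
theorem finrank_h0_two_points {L : X.Modules} {D : FunFld.Divisor k X.functionField}
    (hD : ZetaCurveLib.HasDiv (k := k) hdim L D) {P Q : X} (hP : IsClosed ({P} : Set X)) (hQ : IsClosed ({Q} : Set X)) :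
    Module.finrank k (Coh.HH X (CohB1.tensorMod L (CohB1.tensorMod
        (ClSub.idealMod (Scheme.IdealSheafData.vanishingIdeal ⟨{P}, hP⟩))
        (ClSub.idealMod (Scheme.IdealSheafData.vanishingIdeal ⟨{Q}, hQ⟩)))) 0) =
      FunFld.ell (D - (Finsupp.single (ptPlace (k := k) hdim hP) 1 + Finsupp.single (ptPlace (k := k) hdim hQ) 1)) := by
  obtain ⟨hi, σ, hσ, h⟩ := hD.tensor hdim ((hasDiv_ptIdeal hdim hP).tensor hdim (hasDiv_ptIdeal hdim hQ))
  rw [sub_eq_add_neg, neg_add]
  exact finrank_h0_eq_ell hdim hi hσ h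

include hdim in
/-- The drop for the differentials is a pencil question. -/
theorem omega_drop_iff {P Q : X} (hP : IsClosed ({P} : Set X)) (hQ : IsClosed ({Q} : Set X)) :
    Module.finrank k (Coh.HH X (CohB1.tensorMod (Omega.sheaf (X ↘ Spec (CommRingCat.of k))) (CohB1.tensorMod
        (ClSub.idealMod (Scheme.IdealSheafData.vanishingIdeal ⟨{P}, hP⟩))
        (ClSub.idealMod (Scheme.IdealSheafData.vanishingIdeal ⟨{Q}, hQ⟩)))) 0) + 2 =
      Module.finrank k (Coh.HH X (Omega.sheaf (X ↘ Spec (CommRingCat.of k))) 0) ↔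
    FunFld.ell (Finsupp.single (ptPlace (k := k) hdim hP) 1 + Finsupp.single (ptPlace (k := k) hdim hQ) 1) = 1 := by
  obtain ⟨C, σ, hσ, hC, hcan⟩ := exists_canonical (k := k) hdim
  have hK := isFunctionField (k := k) (X := X) hdim
  rw [finrank_h0_two_points hdim ⟨omega_invertible (k := k) hdim, σ, hσ, hC⟩ hP hQ, h0_omega_closed hdim]
  have h := Groth.Agent.S10990.result k X.functionField hK C hcan
    (Finsupp.single (ptPlace (k := k) hdim hP) 1 + Finsupp.single (ptPlace (k := k) hdim hQ) 1)
  rw [Groth.Agent.FFLib.deg_add, genus_eq hdim] at h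
  rw [show ∀ R : FunFld.Place k X.functionField, FunFld.Divisor.deg (Finsupp.single R (1 : ℤ)) = 1 from fun R => by
    rw [FunFld.Divisor.deg, Finsupp.sum_single_index (by simp), Groth.Agent.FFLib.deg_eq_one hK]; simp,
    show ∀ R : FunFld.Place k X.functionField, FunFld.Divisor.deg (Finsupp.single R (1 : ℤ)) = 1 from fun R => by
    rw [FunFld.Divisor.deg, Finsupp.sum_single_index (by simp), Groth.Agent.FFLib.deg_eq_one hK]; simp] at h
  omega

include hdim in
/-- An effective divisor of degree two is a sum of two points. -/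
theorem exists_eq_two_points {E : FunFld.Divisor k X.functionField} (h0 : 0 ≤ E) (hE : E.deg = 2) :
    ∃ (P Q : X) (hP : IsClosed ({P} : Set X)) (hQ : IsClosed ({Q} : Set X)),
      E = Finsupp.single (ptPlace (k := k) hdim hP) 1 + Finsupp.single (ptPlace (k := k) hdim hQ) 1 := by
  classical
  have hK := isFunctionField (k := k) (X := X) hdim
  have key : ∀ (F : FunFld.Divisor k X.functionField), 0 ≤ F → 0 < F.deg → ∃ (P : X) (hP : IsClosed ({P} : Set X)),
      0 ≤ F - Finsupp.single (ptPlace (k := k) hdim hP) 1 := by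
    intro F hF hd
    have hne : F ≠ 0 := fun h => by rw [h, Groth.Agent.FFLib.deg_zero] at hd; omega
    obtain ⟨R, hR⟩ := Finsupp.support_nonempty_iff.2 hne
    obtain ⟨P, hP, rfl⟩ := exists_point (k := k) hdim R
    refine ⟨P, hP, fun S => ?_⟩
    have h1 : F (ptPlace (k := k) hdim hP) ≠ 0 := Finsupp.mem_support_iff.1 hR
    have h2 : (0 : ℤ) ≤ F S := hF S
    simp only [Finsupp.coe_zero, Pi.zero_apply, Finsupp.sub_apply, Finsupp.single_apply]
    split_ifs with h
    · subst h; omega
    · omega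
  have hd1 : ∀ (P : X) (hP : IsClosed ({P} : Set X)), FunFld.Divisor.deg (Finsupp.single (ptPlace (k := k) hdim hP) (1 : ℤ)) = 1 :=
    fun P hP => by
      rw [FunFld.Divisor.deg, Finsupp.sum_single_index (by simp), Groth.Agent.FFLib.deg_eq_one hK]; simp
  obtain ⟨P, hP, h1⟩ := key E h0 (by omega)
  obtain ⟨Q, hQ, h2⟩ := key _ h1 (by rw [Groth.Agent.FFLib.deg_sub, hd1, hE]; norm_num)
  refine ⟨P, Q, hP, hQ, ?_⟩
  have h3 := Groth.Agent.FFLib.eq_zero_of_deg_eq_zero hK h2
    (by rw [Groth.Agent.FFLib.deg_sub, Groth.Agent.FFLib.deg_sub, hd1, hd1, hE]; norm_num)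
  rwa [sub_sub, sub_eq_zero] at h3

end CurveH0Lib

end
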