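import Groth.Agent.CurveH0Lib.LinStable
import Groth.Agent.CurveH0Lib.PointDiv
import Groth.Agent.S1611

set_option autoImplicit false
set_option linter.style.haveILetI false
universe u

open CategoryTheory CategoryTheory.Limits AlgebraicGeometry
open FunFld CurveDualLib DevissLib

noncomputable section

namespace CurveH0Lib

attribute [local instance] algFF

variable {k : Type u} [Field k] [IsAlgClosed k] {X : Scheme.{u}} [X.Over (Spec (CommRingCat.of k))] [IsIntegral X]
  [IsProper (X ↘ Spec (CommRingCat.of k))] [Smooth (X ↘ Spec (CommRingCat.of k))]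
  (hdim : topologicalKrullDim X = 1)

include hdim in
/-- The complete linear series of a globally generated invertible module has no base point. -/
theorem ell_sub_lt_of_gg {L : X.Modules} {D : Divisor k X.functionField} (hD : ZetaCurveLib.HasDiv (k := k) hdim L D)
    (hg : Curv2.IsGloballyGenerated L) (Q : Place k X.functionField) : ell (D - Finsupp.single Q 1) < ell D := by
  obtain ⟨P, hP, rfl⟩ := exists_point (k := k) hdim Q
  have hL := hD.1
  haveI := HurwitzLib.dvr_stalk_closed (k := k) hdim hP
  haveI := CurvLib.isNoetherian k (X := X)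
  obtain ⟨L', q, hL', hq, hd, hrange⟩ := GenusZeroLib.exists_twist_down (k := k) hdim hP hL
  obtain ⟨e⟩ := nonempty_iso_twist_down (k := k) hdim hP hL' hL q hq hd hrange
  have hD' := (hD.tensor hdim (hasDiv_ptIdeal hdim hP)).of_iso hdim e hL'
  rw [← sub_eq_add_neg] at hD'
  rw [← LinStable.h0_eq_ell hdim hD, ← LinStable.h0_eq_ell hdim hD']
  haveI := CurvLib.mono_of_ne_zero hL' hL hq
  have hS : (ShortComplex.mk q (cokernel.π q) (cokernel.condition q)).ShortExact :=
    { exact := ShortComplex.exact_of_g_is_cokernel _ (cokernelIsCokernel q) }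
  haveI := CurvLib.finite_HH (k := k) (CurvLib.isCoh_of_isInvertible hL) 0
  haveI := CurvLib.finite_HH (k := k) (CurvLib.isCoh_of_isInvertible hL') 0
  obtain ⟨σ, hσ⟩ := Groth.Agent.S1611.exists_genAt_of_gg hL hg P
  have hlt : LinearMap.range (CurvLib.hMap (k := k) q 0) < ⊤ := by
    refine lt_top_iff_ne_top.2 fun h => ?_
    obtain ⟨y, hy⟩ : (DegPullLib.e0 L).symm σ ∈ LinearMap.range (CurvLib.hMap (k := k) q 0) := h ▸ Submodule.mem_top
    refine (hrange ⊤ σ).1 ⟨DegPullLib.e0 L' y, ?_⟩ trivial hσ
    rw [← RRVanLib.e0_map (k := k) q y, hy, AddEquiv.apply_symm_apply]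
  have h := Submodule.finrank_lt (ne_of_lt hlt)
  rwa [LinearMap.finrank_range_of_inj (CurvLib.injective₀ hS)] at h

end CurveH0Lib

end
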