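import Groth.Agent.CurveH0Lib.NineApps
import Groth.Agent.CurveH0Lib.BasePointFree

/-!
# From modules to divisors in genus nine
-/

set_option autoImplicit false
set_option linter.style.haveILetI false
universe u

open CategoryTheory CategoryTheory.Limits AlgebraicGeometry
open FunFld CurveDualLib

noncomputable section

namespace CurveH0Lib.Nine

attribute [local instance] algFF

variable {k : Type u} [Field k] [IsAlgClosed k] {X : Scheme.{u}} [X.Over (Spec (CommRingCat.of k))] [IsIntegral X]
  [IsProper (X ↘ Spec (CommRingCat.of k))] [Smooth (X ↘ Spec (CommRingCat.of k))]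
  (hdim : topologicalKrullDim X = 1)

include hdim in
theorem h1_eq {C : Divisor k X.functionField} (hC : IsCanonical k X.functionField C) {L : X.Modules}
    {D : Divisor k X.functionField} (hD : ZetaCurveLib.HasDiv (k := k) hdim L D) :
    Module.finrank k (Coh.HH X L 1) = ell (C - D) := by
  have h0 := RRVanLib.finrank_h0_structure (k := k) (X := X)
  have h1 := hD.deg hdim h0
  have h2 := LinStable.h0_eq_ell hdim hD
  have h3 := Groth.Agent.FFLib.riemann_roch (isFunctionField (k := k) (X := X) hdim) hC D
  rw [genus_eq (k := k) hdim] at h3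
  simp only [Curv2.deg, CurvLib.euler_curve (k := k) hdim, h0, Curv2.genus] at h1 h3
  omega

include hdim in
theorem hmin_div {C : Divisor k X.functionField} (hC : IsCanonical k X.functionField C) {e : ℤ}
    (hmin : ∀ M : X.Modules, PicF.IsInvertible M → 2 ≤ Module.finrank k (Coh.HH X M 0) →
      2 ≤ Module.finrank k (Coh.HH X M 1) → 2 * (Module.finrank k (Coh.HH X M 0) : ℤ) + e ≤ Curv2.deg k X M 1)
    (D : Divisor k X.functionField) (h2 : 2 ≤ ell D) (h2' : 2 ≤ ell (C - D)) : 2 * (ell D : ℤ) + e ≤ D.deg := by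
  have h0 := RRVanLib.finrank_h0_structure (k := k) (X := X)
  obtain ⟨L, hL⟩ := ZetaCurveLib.exists_module (k := k) hdim h0 D
  have := hmin L hL.1 (by rwa [LinStable.h0_eq_ell hdim hL]) (by rwa [h1_eq hdim hC hL])
  rwa [LinStable.h0_eq_ell hdim hL, hL.deg hdim h0] at this

include hdim in
/-- A pencil from a divisor. -/
theorem exists_linSer {N : Divisor k X.functionField} {d : ℕ} (hd : N.deg = d) (h2 : 2 ≤ ell N) :
    ∃ (L : X.Modules) (s : Fin 2 → LinSer.Sect X L), LinSer.IsLinSer k X L d 1 s := by
  have h0 := RRVanLib.finrank_h0_structure (k := k) (X := X)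
  obtain ⟨L, hL⟩ := ZetaCurveLib.exists_module (k := k) hdim h0 N
  rw [← LinStable.h0_eq_ell hdim hL] at h2
  letI := GenusZeroLib.kmod k L
  haveI := CurvLib.isNoetherian k (X := X)
  haveI := CurvLib.finite_HH (k := k) (CurvLib.isCoh_of_isInvertible hL.1) 0
  haveI : Module.Finite k Γ(L, ⊤) := Module.Finite.equiv (GenusZeroLib.e0k k L)
  rw [(GenusZeroLib.e0k k L).finrank_eq] at h2
  let b := Module.finBasis k Γ(L, ⊤)
  have hli : LinearIndependent k (fun j : Fin 2 => b (Fin.castLE h2 j)) :=
    b.linearIndependent.comp _ (Fin.castLE_injective h2)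
  exact ⟨L, fun j => b (Fin.castLE h2 j), hL.1, by rw [hL.deg hdim h0, hd],
    fun c hc => funext (Fintype.linearIndependent_iff.1 hli c hc)⟩

end CurveH0Lib.Nine

end
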