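import Groth.Agent.CurveH0Lib.Twist
import Groth.Agent.GenusZeroLib.Embed
import Groth.Agent.TwistLib.CoordGen
import Groth.Agent.NormalLib.Regular
import Groth.Agent.HilbPolyLib.Ample

/-!
# Very ample invertible modules on curves over algebraically closed fields
-/

set_option autoImplicit false
set_option linter.style.haveILetI false
universe u

open CategoryTheory CategoryTheory.Limits AlgebraicGeometry TopologicalSpace Opposite
open AmpleLib (GenAt GenOn res)
open TwistLib (genSet)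
open GenusZeroLib (kmod e0k ρ)
open AmpleThLib

noncomputable section

namespace CurveH0Lib

theorem exists_toPn_sections {X : Scheme.{u}} {R : Type u} [CommRing R] {M : X.Modules}
    (q : X ⟶ Spec (CommRingCat.of R)) (hM : PicF.IsInvertible M) {m : ℕ}
    (v : Fin (m + 1) → Γ(M, ⊤)) (hgen : ∀ y : X, ∃ k, y ∈ genSet hM (v k)) :
    ∃ (r : X ⟶ CohB1.ProjSpace m R) (τ : (Scheme.Modules.pullback r).obj (Twist.twistProjSpace m R 1) ≅ M),
      r ≫ CohB1.ProjSpace.toSpec m R = q ∧
        ∀ j, τ.hom.app ⊤ (KFlatLib.puSec r (U := ⊤) (ProjUP.coord m R j)) = v j := by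
  classical
  let 𝒮 := CohB1.polyGrading m R
  let b := Pi.basisFun R (Fin (m + 1))
  let ι : (Fin (m + 1) → R) →ₗ[R] MvPolynomial (Fin (m + 1)) R :=
    Module.Basis.constr b R MvPolynomial.X
  have hι : ∀ c, ι c ∈ 𝒮 1 := by
    intro c
    rw [Module.Basis.constr_apply_fintype]
    exact sum_mem fun i _ => Submodule.smul_mem _ _ (MvPolynomial.isHomogeneous_X _ i)
  have hsym : IsSymmetricAlgebra ι := SymmetricAlgebra.IsSymmetricAlgebra.mvPolynomial (Fin (m + 1)) b
  let ρ := ProjUP.toGlobal q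
  let v' : (Fin (m + 1) → R) →+ Γ(M, ⊤) :=
    AddMonoidHom.mk' (fun c => ∑ i, ρ (c i) • v i)
      (fun c c' => by simp only [Pi.add_apply, map_add, add_smul, Finset.sum_add_distrib])
  have hv : ∀ (a : R) c, v' (a • c) = ρ a • v' c := fun a c => by
    simp only [v', AddMonoidHom.mk'_apply, Finset.smul_sum]
    exact Finset.sum_congr rfl fun i _ => by rw [Pi.smul_apply, smul_eq_mul, map_mul, mul_smul]
  have hb : ∀ k, v' (b k) = v k := fun k => by
    simp only [v', b, AddMonoidHom.mk'_apply, Pi.basisFun_apply]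
    rw [Finset.sum_eq_single k (fun i _ hi => by rw [Pi.single_eq_of_ne hi, map_zero, zero_smul])
      (fun h => absurd (Finset.mem_univ k) h), Pi.single_eq_same, map_one, one_smul]
  have hbι : ∀ k, ι (b k) = MvPolynomial.X k := fun k => b.constr_basis _ _ k
  obtain ⟨r, hrb, τ, hτ⟩ := TwistLib.SymUP.exists_r_τ 𝒮 ι hι hsym q M hM v' hv fun y => by
    obtain ⟨k, hk⟩ := hgen y
    exact ⟨b k, show y ∈ genSet hM (v' (b k)) by rw [hb]; exact hk⟩
  let glob : Fin (m + 1) → Γ(Twist.twist 𝒮 ((1 : ℕ) : ℤ), ⊤) := fun k =>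
    Twist.globalOf 𝒮 ⟨MvPolynomial.X k, MvPolynomial.isHomogeneous_X R k⟩
  have hτ' : ∀ k, τ.hom.app ⊤ (KFlatLib.puSec r (glob k)) = v k := fun k => by
    refine Eq.trans ?_ ((hτ (b k)).trans (hb k))
    refine congrArg (fun t : 𝒮 1 => τ.hom.app ⊤ (KFlatLib.puSec r (U := ⊤)
      (show Γ(Twist.twist 𝒮 ((1 : ℕ) : ℤ), ⊤) from Twist.globalOf 𝒮 t))) ?_
    exact Subtype.ext (hbι k).symm
  exact ⟨r, τ, hrb, hτ'⟩

variable {k : Type u} [Field k] {X : Scheme.{u}} [X.Over (Spec (CommRingCat.of k))]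

/-- Sections separate the points `P`, `Q`, possibly equal. -/
def Separates (L : X.Modules) : Prop :=
  ∀ P Q : X, IsClosed ({P} : Set X) → IsClosed ({Q} : Set X) →
    (∃ σ : Γ(L, ⊤), GenAt L σ (show P ∈ (⊤ : X.Opens) from trivial)) ∧
    ∃ τ : Γ(L, ⊤), ¬ GenAt L τ (show P ∈ (⊤ : X.Opens) from trivial) ∧
      (Q ≠ P → GenAt L τ (show Q ∈ (⊤ : X.Opens) from trivial)) ∧
      (Q = P → L.presheaf.germ ⊤ Q trivial τ ∉
        IsLocalRing.maximalIdeal (X.presheaf.stalk Q) ^ 2 • (⊤ : Submodule (X.presheaf.stalk Q) (L.presheaf.stalk Q)))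

variable [IsAlgClosed k] [IsIntegral X] [IsProper (X ↘ Spec (CommRingCat.of k))] (hdim : topologicalKrullDim X = 1)
  (hreg : ∀ x : X, IsRegularLocalRing (X.presheaf.stalk x))

include hdim hreg in
/-- Separation is the drop of `h⁰` by two under twisting by two points. -/
theorem separates_iff {L : X.Modules} (hL : PicF.IsInvertible L) :
    Separates L ↔ ∀ (P Q : X) (hP : IsClosed ({P} : Set X)) (hQ : IsClosed ({Q} : Set X)),
      Module.finrank k (Coh.HH X (CohB1.tensorMod L (CohB1.tensorMod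
        (ClSub.idealMod (Scheme.IdealSheafData.vanishingIdeal ⟨{P}, hP⟩))
        (ClSub.idealMod (Scheme.IdealSheafData.vanishingIdeal ⟨{Q}, hQ⟩)))) 0) + 2 =
        Module.finrank k (Coh.HH X L 0) := by
  classical
  have hn : ∀ x : X, IsIntegrallyClosed (X.presheaf.stalk x) := fun x =>
    haveI := hreg x
    NormalLib.isIntegrallyClosed_of_isRegularLocalRing _
  refine forall_congr' fun P => forall_congr' fun Q => forall_congr' fun hP => forall_congr' fun hQ => ?_
  obtain ⟨_, hrP⟩ := GenusZeroLib.closed_point_data (k := k) hdim hP (hn P)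
  obtain ⟨_, hrQ⟩ := GenusZeroLib.closed_point_data (k := k) hdim hQ (hn Q)
  obtain ⟨L₁, q, hL₁, hq, hd, hrange⟩ := GenusZeroLib.exists_twist_down (k := k) hdim hP hL
  obtain ⟨e⟩ := nonempty_iso_twist_down (k := k) hdim hP hL₁ hL q hq hd hrange
  have hh1 := (CurvLib.hIso (k := k) e 0).finrank_eq
  have hh2 := (CurvLib.hIso (k := k) ((HilbPolyLib.assocIso L _ _).symm ≪≫
    HilbPolyLib.congrLeft e (ClSub.idealMod (GenusZeroLib.ptIdeal hQ))) 0).finrank_eq
  obtain ⟨hP1, hP0⟩ := GenusZeroLib.finrank_h0_tensor_ptIdeal (k := k) hP hdim hrP hL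
  obtain ⟨hQ1, hQ0⟩ := GenusZeroLib.finrank_h0_tensor_ptIdeal (k := k) hQ hdim hrQ hL₁
  simp only [GenusZeroLib.ptIdeal] at hh1 hh2 hP1 hP0 hQ1 hQ0
  have hQP : Q ≠ P → ∃ W : X.Opens, Q ∈ W ∧ P ∉ W := fun hne => ⟨⟨_, hP.isOpen_compl⟩, hne, fun h => h rfl⟩
  constructor
  · rintro ⟨hσ, τ, hτP, hτQ⟩
    obtain ⟨t, ht⟩ := (hrange ⊤ τ).2 fun _ => hτP
    have h1 := hP1 hσ
    have h2 := hQ1 ⟨t, (genAt_twist_down_iff hL₁ hL q hrange hQP t).2 (ht.symm ▸ hτQ)⟩
    omega
  · intro h
    by_cases hσ : ∃ σ : Γ(L, ⊤), GenAt L σ (show P ∈ (⊤ : X.Opens) from trivial)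
    · refine ⟨hσ, ?_⟩
      by_cases ht : ∃ t : Γ(L₁, ⊤), GenAt L₁ t (show Q ∈ (⊤ : X.Opens) from trivial)
      · obtain ⟨t, ht⟩ := ht
        exact ⟨q.app ⊤ t, (hrange ⊤ _).1 ⟨t, rfl⟩ trivial, (genAt_twist_down_iff hL₁ hL q hrange hQP t).1 ht⟩
      · push Not at ht
        have h1 := hP1 hσ
        have h2 := hQ0 ht
        omega
    · push Not at hσ
      have h1 := hP0 hσ
      by_cases ht : ∃ t : Γ(L₁, ⊤), GenAt L₁ t (show Q ∈ (⊤ : X.Opens) from trivial)
      · have h2 := hQ1 ht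
        omega
      · push Not at ht
        have h2 := hQ0 ht
        omega

omit [IsAlgClosed k] [IsIntegral X] [IsProper (X ↘ Spec (CommRingCat.of k))] in
theorem xvan_iff_not_genAt {n : ℕ} (f : X ⟶ CohB1.ProjSpace n k) (c : Fin (n + 1) → k) (x : X) :
    ProjDegLib.XVan k (X ↘ Spec (CommRingCat.of k)) n f c x ↔
      ¬ GenAt ((Scheme.Modules.pullback f).obj (Twist.twistProjSpace n k 1))
        (show Γ((Scheme.Modules.pullback f).obj (Twist.twistProjSpace n k 1), ⊤) from
          ProjDegLib.psec k (X ↘ Spec (CommRingCat.of k)) n f c) (show x ∈ (⊤ : X.Opens) from trivial) :=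
  (not_genAt_iff_mem (TwistLib.coord_isInvertible n k f) (W := ⊤) _ trivial).symm

include hdim hreg in
/-- A closed immersion separates. -/
theorem separates_of_isClosedImmersion {n : ℕ} (f : X ⟶ CohB1.ProjSpace n k) [IsClosedImmersion f]
    (hf : f ≫ CohB1.ProjSpace.toSpec n k = X ↘ Spec (CommRingCat.of k)) :
    Separates ((Scheme.Modules.pullback f).obj (Twist.twistProjSpace n k 1)) := by
  classical
  have hn : ∀ x : X, IsIntegrallyClosed (X.presheaf.stalk x) := fun x =>
    haveI := hreg x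
    NormalLib.isIntegrallyClosed_of_isRegularLocalRing _
  obtain ⟨hpts, htan⟩ := ProjDegLib.sep_of_isClosedImmersion k n hf
  intro P Q hP hQ
  obtain ⟨a, ha⟩ := TwistLib.exists_genAt_coord n k f P
  refine ⟨⟨_, ha⟩, ?_⟩
  by_cases hne : Q = P
  · subst hne
    obtain ⟨_, -⟩ := GenusZeroLib.closed_point_data (k := k) hdim hQ (hn Q)
    by_contra hcon
    push Not at hcon
    have hle := (htan Q hQ).trans (sup_le (Submodule.span_le.2 ?_) le_rfl)
    · let O := X.presheaf.stalk Q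
      obtain ⟨ϖ, hϖ⟩ := IsDiscreteValuationRing.exists_irreducible O
      have hm : ϖ ∈ IsLocalRing.maximalIdeal O := by rw [hϖ.maximalIdeal_eq]; exact Ideal.mem_span_singleton_self _
      have h1 := hle ((ProjDegLib.mem_smul_top_iff ha _ ϖ).2 hm)
      have h2 := (ProjDegLib.mem_smul_top_iff ha _ ϖ).1 h1
      rw [pow_two, hϖ.maximalIdeal_eq, Ideal.span_singleton_mul_span_singleton, Ideal.mem_span_singleton] at h2
      obtain ⟨c, hc⟩ := h2
      refine hϖ.not_isUnit (IsUnit.of_mul_eq_one c (mul_left_cancel₀ hϖ.ne_zero ?_))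
      rw [← mul_assoc, ← hc, mul_one]
    · rintro _ ⟨c, rfl, hc⟩
      exact (hcon (ProjDegLib.psec k (X ↘ Spec (CommRingCat.of k)) n f c)
        ((xvan_iff_not_genAt f c Q).1 hc) (fun h => absurd rfl h)).2
  · obtain ⟨c, hcP, hcQ⟩ := hpts P Q hP hQ (Ne.symm hne)
    refine ⟨ProjDegLib.psec k (X ↘ Spec (CommRingCat.of k)) n f c, (xvan_iff_not_genAt f c P).1 hcP, fun _ => ?_,
      fun h => absurd h hne⟩
    by_contra h
    exact hcQ ((xvan_iff_not_genAt f c Q).2 h)

include hdim hreg in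
/-- A separating linear system spanned by the coordinates gives a closed immersion. -/
theorem isClosedImmersion_of_separates {n : ℕ} (r : X ⟶ CohB1.ProjSpace n k)
    (hr : r ≫ CohB1.ProjSpace.toSpec n k = X ↘ Spec (CommRingCat.of k))
    (hsep' : Separates ((Scheme.Modules.pullback r).obj (Twist.twistProjSpace n k 1)))
    (hspan : ∀ t : Γ((Scheme.Modules.pullback r).obj (Twist.twistProjSpace n k 1), ⊤),
      ∃ c : Fin (n + 1) → k, t = ProjDegLib.psec k (X ↘ Spec (CommRingCat.of k)) n r c) :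
    IsClosedImmersion r := by
  refine ProjDegLib.isClosedImmersion_of_sep k n hr (fun P Q hP hQ hne => ?_) (fun P hP => ?_)
  · obtain ⟨-, t, htP, htQ, -⟩ := hsep' P Q hP hQ
    obtain ⟨c, rfl⟩ := hspan t
    exact ⟨c, Or.inl ⟨(xvan_iff_not_genAt r c P).2 htP, fun hc => (xvan_iff_not_genAt r c Q).1 hc (htQ (Ne.symm hne))⟩⟩
  · obtain ⟨hdvr, -⟩ := GenusZeroLib.closed_point_data (k := k) hdim hP
      (haveI := hreg P; NormalLib.isIntegrallyClosed_of_isRegularLocalRing _)
    obtain ⟨⟨σ, hσ⟩, t, htP, -, ht2⟩ := hsep' P P hP hP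
    obtain ⟨c, rfl⟩ := hspan t
    refine le_sup_of_le_left ?_
    have hmem := (xvan_iff_not_genAt r c P).2 htP
    obtain ⟨a, ha⟩ := hσ.2 (((Scheme.Modules.pullback r).obj (Twist.twistProjSpace n k 1)).presheaf.germ ⊤ P trivial
      (ProjDegLib.psec k (X ↘ Spec (CommRingCat.of k)) n r c))
    let O := X.presheaf.stalk P
    dsimp only at ha
    have ham : a ∈ IsLocalRing.maximalIdeal O :=
      (ProjDegLib.mem_smul_top_iff hσ _ a).1 ((congrArg (· ∈ _) ha).mpr hmem)
    have ham2 : a ∉ IsLocalRing.maximalIdeal O ^ 2 := fun h2 =>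
      ht2 rfl ((congrArg (· ∈ _) ha).mp ((ProjDegLib.mem_smul_top_iff hσ _ a).2 h2))
    obtain ⟨ϖ, hϖ⟩ := IsDiscreteValuationRing.exists_irreducible O
    have hspanm : IsLocalRing.maximalIdeal O ≤ Ideal.span {a} := by
      rw [hϖ.maximalIdeal_eq, Ideal.mem_span_singleton] at ham
      obtain ⟨u, rfl⟩ := ham
      have hu : IsUnit u := by
        by_contra hu
        refine ham2 ?_
        rw [pow_two]
        exact Ideal.mul_mem_mul (hϖ.maximalIdeal_eq.ge (Ideal.mem_span_singleton_self _))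
          ((IsLocalRing.mem_maximalIdeal _).2 hu)
      rw [hϖ.maximalIdeal_eq, Ideal.span_singleton_mul_right_unit hu]
    refine Submodule.smul_le.2 fun d hd z _ => ?_
    obtain ⟨e, rfl⟩ := hσ.2 z
    obtain ⟨d', rfl⟩ := Ideal.mem_span_singleton'.1 (hspanm hd)
    have : (d' * a) • e • ((Scheme.Modules.pullback r).obj (Twist.twistProjSpace n k 1)).presheaf.germ ⊤ P trivial σ =
        (d' * e) • ((Scheme.Modules.pullback r).obj (Twist.twistProjSpace n k 1)).presheaf.germ ⊤ P trivial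
          (ProjDegLib.psec k (X ↘ Spec (CommRingCat.of k)) n r c) := by
      rw [← ha, smul_smul, smul_smul]
      congr 1
      ring
    rw [this]
    exact Submodule.smul_mem _ _ (Submodule.subset_span ⟨c, rfl, hmem⟩)

include hdim hreg in
/-- The complete linear system of a separating invertible module is a closed immersion. -/
theorem exists_closedImmersion_of_separates {L : X.Modules} (hL : PicF.IsInvertible L)
    (h : ∀ (P Q : X) (hP : IsClosed ({P} : Set X)) (hQ : IsClosed ({Q} : Set X)),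
      Module.finrank k (Coh.HH X (CohB1.tensorMod L (CohB1.tensorMod
        (ClSub.idealMod (Scheme.IdealSheafData.vanishingIdeal ⟨{P}, hP⟩))
        (ClSub.idealMod (Scheme.IdealSheafData.vanishingIdeal ⟨{Q}, hQ⟩)))) 0) + 2 =
        Module.finrank k (Coh.HH X L 0)) :
    ∃ (n : ℕ) (i : X ⟶ CohB1.ProjSpace n k), IsClosedImmersion i ∧
      i ≫ CohB1.ProjSpace.toSpec n k = X ↘ Spec (CommRingCat.of k) ∧
      Nonempty ((Scheme.Modules.pullback i).obj (Twist.twistProjSpace n k 1) ≅ L) := by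
  classical
  have hsep := (separates_iff (k := k) hdim hreg hL).2 h
  haveI := CurvLib.isNoetherian k (X := X)
  haveI : JacobsonSpace X := LocallyOfFiniteType.jacobsonSpace (X ↘ Spec (CommRingCat.of k))
  letI := kmod k L
  haveI := CurvLib.finite_HH (k := k) (CurvLib.isCoh_of_isInvertible hL) 0
  haveI : Module.Finite k Γ(L, ⊤) := Module.Finite.equiv (e0k k L)
  obtain ⟨n, hn⟩ : ∃ n, Module.finrank k Γ(L, ⊤) = n + 1 := by
    obtain ⟨x, -, hx⟩ := nonempty_inter_closedPoints (X := X) (Z := Set.univ) Set.univ_nonempty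
      isClosed_univ.isLocallyClosed
    rw [mem_closedPoints_iff] at hx
    have := h x x hx hx
    exact ⟨Module.finrank k Γ(L, ⊤) - 1, by rw [(e0k k L).finrank_eq] at this; omega⟩
  let b : Module.Basis (Fin (n + 1)) k Γ(L, ⊤) := Module.finBasisOfFinrankEq k Γ(L, ⊤) hn
  let v : Fin (n + 1) → Γ(L, ⊤) := fun j => b j
  have hcov : ∀ x : X, ∃ j, x ∈ genSet hL (v j) := by
    have hclosed : ∀ x : X, IsClosed ({x} : Set X) → ∃ j, x ∈ genSet hL (v j) := by
      intro x hx
      obtain ⟨⟨σ, hσ⟩, -⟩ := hsep x x hx hx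
      refine TwistLib.exists_genAt_of_generatedBy hL v x (eq_top_iff.mpr ?_)
      rw [← TwistLib.span_of_genAt L (fun _ : Unit => σ) x (k := ()) hσ, Submodule.span_le]
      rintro _ ⟨-, rfl⟩
      conv => arg 2; rw [← b.sum_repr σ]
      rw [map_sum]
      refine Submodule.sum_mem _ fun l _ => ?_
      have h1 : (L.presheaf.germ ⊤ x trivial).hom (b.repr σ l • b l) =
          X.presheaf.germ ⊤ x trivial (ρ k (b.repr σ l)) • L.presheaf.germ ⊤ x trivial (v l) :=
        AmpleLib.germ_smul L (W := ⊤) (ρ (X := X) k (b.repr σ l)) (v l) trivial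
      rw [h1]
      exact Submodule.smul_mem _ _ (Submodule.subset_span ⟨l, rfl⟩)
    intro x
    obtain ⟨y, hy, hyc⟩ := nonempty_inter_closedPoints (X := X) (Z := closure {x})
      ⟨x, subset_closure rfl⟩ isClosed_closure.isLocallyClosed
    rw [mem_closedPoints_iff] at hyc
    obtain ⟨j, hj⟩ := hclosed y hyc
    exact ⟨j, (specializes_iff_mem_closure.2 hy).mem_open (genSet hL (v j)).2 hj⟩
  obtain ⟨r, τ, hr, hτ⟩ := exists_toPn_sections (X ↘ Spec (CommRingCat.of k)) hL v hcov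
  have hL' := TwistLib.coord_isInvertible n k r
  have hsep' := (separates_iff (k := k) hdim hreg hL').2 fun P Q hP hQ => by
    rw [(CurvLib.hIso (k := k) τ 0).finrank_eq,
      (CurvLib.hIso (k := k) (HilbPolyLib.congrLeft τ _) 0).finrank_eq]
    exact h P Q hP hQ
  have hspan : ∀ t : Γ((Scheme.Modules.pullback r).obj (Twist.twistProjSpace n k 1), ⊤),
      ∃ c : Fin (n + 1) → k, t = ProjDegLib.psec k (X ↘ Spec (CommRingCat.of k)) n r c := fun t => by
    refine ⟨fun j => b.repr (τ.hom.app ⊤ t) j, QCohLib.app_injective_of_mono τ.hom ⊤ ?_⟩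
    refine Eq.trans (b.sum_repr _).symm ?_
    refine Eq.symm ((map_sum (τ.hom.app ⊤).hom _ _).trans (Finset.sum_congr rfl fun j _ => ?_))
    refine (Scheme.Modules.Hom.app_smul τ.hom _ _).trans ?_
    exact congrArg (ρ (X := X) k (b.repr (τ.hom.app ⊤ t) j) • ·) (hτ j)
  exact ⟨n, r, isClosedImmersion_of_separates hdim hreg r hr hsep' hspan, hr, ⟨τ⟩⟩

end CurveH0Lib

end
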