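import Groth.Agent.CurveH0Lib.CliffordOne
import Groth.Agent.CurveH0Lib.NineBridge
import Groth.Agent.CurveH0Lib.LinStable
import Groth.Agent.CurveH0Lib.VeryAmple
import Groth.Agent.CurveH0Lib.PointDiv

/-!
# Smooth plane quintics and Clifford index one
-/

set_option autoImplicit false
set_option linter.style.haveILetI false
set_option linter.unusedSectionVars false
universe u

open CategoryTheory CategoryTheory.Limits AlgebraicGeometry TopologicalSpace Opposite
open AmpleLib (GenAt GenOn res)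
open TwistLib (genSet)
open GenusZeroLib (kmod e0k ρ)
open AmpleThLib

noncomputable section

namespace CurveH0Lib

variable {k : Type u} [Field k] {X : Scheme.{u}} [X.Over (Spec (CommRingCat.of k))]
variable [IsAlgClosed k] [IsIntegral X] [IsProper (X ↘ Spec (CommRingCat.of k))] (hdim : topologicalKrullDim X = 1)
  (hreg : ∀ x : X, IsRegularLocalRing (X.presheaf.stalk x))

include hdim hreg in
/-- The complete linear system of a separating invertible module is a closed immersion into its own space. -/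
theorem exists_closedImmersion_of_separates_rank {L : X.Modules} (hL : PicF.IsInvertible L)
    {n : ℕ} (hn' : Module.finrank k (Coh.HH X L 0) = n + 1)
    (h : ∀ (P Q : X) (hP : IsClosed ({P} : Set X)) (hQ : IsClosed ({Q} : Set X)),
      Module.finrank k (Coh.HH X (CohB1.tensorMod L (CohB1.tensorMod
        (ClSub.idealMod (Scheme.IdealSheafData.vanishingIdeal ⟨{P}, hP⟩))
        (ClSub.idealMod (Scheme.IdealSheafData.vanishingIdeal ⟨{Q}, hQ⟩)))) 0) + 2 =
        Module.finrank k (Coh.HH X L 0)) :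
    ∃ (i : X ⟶ CohB1.ProjSpace n k), IsClosedImmersion i ∧
      i ≫ CohB1.ProjSpace.toSpec n k = X ↘ Spec (CommRingCat.of k) ∧
      Nonempty ((Scheme.Modules.pullback i).obj (Twist.twistProjSpace n k 1) ≅ L) := by
  classical
  have hsep := (separates_iff (k := k) hdim hreg hL).2 h
  haveI := CurvLib.isNoetherian k (X := X)
  haveI : JacobsonSpace X := LocallyOfFiniteType.jacobsonSpace (X ↘ Spec (CommRingCat.of k))
  letI := kmod k L
  haveI := CurvLib.finite_HH (k := k) (CurvLib.isCoh_of_isInvertible hL) 0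
  haveI : Module.Finite k Γ(L, ⊤) := Module.Finite.equiv (e0k k L)
  have hn : Module.finrank k Γ(L, ⊤) = n + 1 := by rw [← (e0k k L).finrank_eq]; exact hn'
  let b : Module.Basis (Fin (n + 1)) k Γ(L, ⊤) := Module.finBasisOfFinrankEq k Γ(L, ⊤) hn
  let v : Fin (n + 1) → Γ(L, ⊤) := fun j => b j
  have hcov : ∀ x : X, ∃ j, x ∈ genSet hL (v j) := by
    have hclosed : ∀ x : X, IsClosed ({x} : Set X) → ∃ j, x ∈ genSet hL (v j) := by
      intro x hx
      obtain ⟨⟨σ, hσ⟩, -⟩ := hsep x x hx hx
      refine TwistLib.exists_genAt_of_generatedBy hL v x (eq_top_iff.mpr ?_)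
      rw [← TwistLib.span_of_genAt L (fun _ : Unit => σ) x (k := ()) hσ, Submodule.span_le]
      rintro _ ⟨-, rfl⟩
      conv => arg 2; rw [← b.sum_repr σ]
      rw [map_sum]
      refine Submodule.sum_mem _ fun l _ => ?_
      have h1 : (L.presheaf.germ ⊤ x trivial).hom (b.repr σ l • b l) =
          X.presheaf.germ ⊤ x trivial (ρ k (b.repr σ l)) • L.presheaf.germ ⊤ x trivial (v l) :=
        AmpleLib.germ_smul L (W := ⊤) (ρ (X := X) k (b.repr σ l)) (v l) trivial
      rw [h1]
      exact Submodule.smul_mem _ _ (Submodule.subset_span ⟨l, rfl⟩)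
    intro x
    obtain ⟨y, hy, hyc⟩ := nonempty_inter_closedPoints (X := X) (Z := closure {x})
      ⟨x, subset_closure rfl⟩ isClosed_closure.isLocallyClosed
    rw [mem_closedPoints_iff] at hyc
    obtain ⟨j, hj⟩ := hclosed y hyc
    exact ⟨j, (specializes_iff_mem_closure.2 hy).mem_open (genSet hL (v j)).2 hj⟩
  obtain ⟨r, τ, hr, hτ⟩ := exists_toPn_sections (X ↘ Spec (CommRingCat.of k)) hL v hcov
  have hL' := TwistLib.coord_isInvertible n k r
  have hsep' := (separates_iff (k := k) hdim hreg hL').2 fun P Q hP hQ => by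
    rw [(CurvLib.hIso (k := k) τ 0).finrank_eq,
      (CurvLib.hIso (k := k) (HilbPolyLib.congrLeft τ _) 0).finrank_eq]
    exact h P Q hP hQ
  have hspan : ∀ t : Γ((Scheme.Modules.pullback r).obj (Twist.twistProjSpace n k 1), ⊤),
      ∃ c : Fin (n + 1) → k, t = ProjDegLib.psec k (X ↘ Spec (CommRingCat.of k)) n r c := fun t => by
    refine ⟨fun j => b.repr (τ.hom.app ⊤ t) j, QCohLib.app_injective_of_mono τ.hom ⊤ ?_⟩
    refine Eq.trans (b.sum_repr _).symm ?_
    refine Eq.symm ((map_sum (τ.hom.app ⊤).hom _ _).trans (Finset.sum_congr rfl fun j _ => ?_))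
    refine (Scheme.Modules.Hom.app_smul τ.hom _ _).trans ?_
    exact congrArg (ρ (X := X) k (b.repr (τ.hom.app ⊤ t) j) • ·) (hτ j)
  exact ⟨r, isClosedImmersion_of_separates hdim hreg r hr hsep' hspan, hr, ⟨τ⟩⟩

attribute [local instance] CurveDualLib.algFF

variable [Smooth (X ↘ Spec (CommRingCat.of k))]

include hdim in
/-- No linear pencils of a degree means no divisor of that degree moves. -/
theorem ell_le_one_of_no_linSer {d : ℕ}
    (h : ¬ ∃ (N : X.Modules) (t : Fin 2 → LinSer.Sect X N), LinSer.IsLinSer k X N d 1 t)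
    (A : FunFld.Divisor k X.functionField) (hA : A.deg = d) : FunFld.ell A ≤ 1 := by
  by_contra h2
  exact h (Nine.exists_linSer hdim hA (by omega))

include hdim hreg in
/-- A net of degree five without trigonal pencils gives a plane embedding. -/
theorem exists_plane_of_g25 {E : FunFld.Divisor k X.functionField} (hE : E.deg = 5) (h3 : 3 ≤ FunFld.ell E)
    (h3' : ∀ N : FunFld.Divisor k X.functionField, N.deg = 3 → FunFld.ell N ≤ 1) :
    Curv2.genus k X = 6 ∧ ∃ i : X ⟶ CohB1.ProjSpace 2 k, IsClosedImmersion i ∧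
        i ≫ CohB1.ProjSpace.toSpec 2 k = X ↘ Spec (CommRingCat.of k) := by
  have hK := CurveDualLib.isFunctionField (k := k) (X := X) hdim
  obtain ⟨hl, hsep, hg⟩ := CliffOne.g25_separates hK hE h3 h3'
  rw [CurveDualLib.genus_eq (k := k) hdim] at hg
  refine ⟨hg, ?_⟩
  have h0 := RRVanLib.finrank_h0_structure (k := k) (X := X)
  obtain ⟨L, hL⟩ := ZetaCurveLib.exists_module (k := k) hdim h0 E
  obtain ⟨i, hi, hik, -⟩ := exists_closedImmersion_of_separates_rank (k := k) hdim hreg hL.1 (n := 2)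
    (by rw [LinStable.h0_eq_ell hdim hL, hl]) fun P Q hP hQ => by
      rw [finrank_h0_two_points hdim hL hP hQ, LinStable.h0_eq_ell hdim hL, ← sub_sub]
      exact hsep _ _
  exact ⟨i, hi, hik⟩

include hdim hreg in
/-- Clifford index one: trigonal or plane quintic. -/
theorem g13_or_quintic {C : FunFld.Divisor k X.functionField} (hC : FunFld.IsCanonical k X.functionField C)
    (hg : 4 ≤ Curv2.genus k X)
    (hmin : ∀ D : FunFld.Divisor k X.functionField, 2 ≤ FunFld.ell D → 2 ≤ FunFld.ell (C - D) →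
      2 * (FunFld.ell D : ℤ) + (-1) ≤ D.deg)
    {D : FunFld.Divisor k X.functionField} (h0 : 2 ≤ FunFld.ell D) (h1 : 2 ≤ FunFld.ell (C - D))
    (he : D.deg = 2 * (FunFld.ell D : ℤ) - 1) :
    (∃ (L : X.Modules) (s : Fin 2 → LinSer.Sect X L), LinSer.IsLinSer k X L 3 1 s) ∨
      (Curv2.genus k X = 6 ∧ ∃ i : X ⟶ CohB1.ProjSpace 2 k, IsClosedImmersion i ∧
        i ≫ CohB1.ProjSpace.toSpec 2 k = X ↘ Spec (CommRingCat.of k)) := by
  have hK := CurveDualLib.isFunctionField (k := k) (X := X) hdim
  rw [or_iff_not_imp_left]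
  intro hno
  rcases CliffOne.g13_or_g25 hK hC hmin (by rw [CurveDualLib.genus_eq (k := k) hdim]; exact hg) h0 h1 he with
    ⟨N, hN, hN2⟩ | ⟨N, hN, hN3⟩
  · exact absurd (Nine.exists_linSer hdim (d := 3) hN hN2) hno
  · exact exists_plane_of_g25 hdim hreg hN hN3 fun A hA => ell_le_one_of_no_linSer hdim hno A hA

end CurveH0Lib

end
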