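import Mathlib.RingTheory.Nullstellensatz
import Mathlib.RingTheory.MvPolynomial.Homogeneous
import Mathlib.RingTheory.AlgebraicIndependent.TranscendenceBasis
import Mathlib.RingTheory.IntegralClosure.IsIntegral.Basic
import Mathlib.RingTheory.Localization.FractionRing

/-!
# Hopf's inequality over an algebraically closed field
-/

set_option autoImplicit false

universe u

open MvPolynomial Cardinal

namespace CurveH0Lib.Hopf

variable {K : Type u} [Field K] [IsAlgClosed K] {a b c : ℕ}

/-- The Segre map on polynomial rings. -/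
noncomputable def segre : MvPolynomial (Fin a × Fin b) K →ₐ[K] MvPolynomial (Fin a ⊕ Fin b) K :=
  aeval fun p => X (Sum.inl p.1) * X (Sum.inr p.2)

omit [IsAlgClosed K] in
theorem segre_isHomogeneous {h : MvPolynomial (Fin a × Fin b) K} {d : ℕ} (hh : h.IsHomogeneous d) :
    (segre h).IsHomogeneous (2 * d) :=
  hh.aeval _ fun p => (isHomogeneous_X _ _).mul (isHomogeneous_X _ _)

omit [IsAlgClosed K] in
theorem component_segre (h : MvPolynomial (Fin a × Fin b) K) (d : ℕ) :
    homogeneousComponent (2 * d) (segre h) = segre (homogeneousComponent d h) := by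
  classical
  conv_lhs => rw [← sum_homogeneousComponent h, map_sum, map_sum]
  rw [Finset.sum_eq_single d]
  · rw [homogeneousComponent_of_mem
      (segre_isHomogeneous (homogeneousComponent_isHomogeneous d h)), if_pos rfl]
  · intro e _ he
    rw [homogeneousComponent_of_mem
      (segre_isHomogeneous (homogeneousComponent_isHomogeneous e h)), if_neg (by omega)]
  · intro hd
    rw [Finset.mem_range] at hd
    rw [homogeneousComponent_eq_zero (φ := h) (n := d) (by omega), map_zero, map_zero]

variable (L : Fin c → Fin a × Fin b → K)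

/-- The linear forms. -/
noncomputable def form (k : Fin c) : MvPolynomial (Fin a × Fin b) K := ∑ p, C (L k p) * X p

/-- The ideal of the linear section of the Segre cone. -/
noncomputable def sect : Ideal (MvPolynomial (Fin a × Fin b) K) :=
  RingHom.ker (segre : MvPolynomial (Fin a × Fin b) K →ₐ[K] _) ⊔ Ideal.span (Set.range (form L))

omit [IsAlgClosed K] in
theorem zeroLocus_sect (hL : ∀ (u : Fin a → K) (v : Fin b → K),
      (∀ k, ∑ p, L k p * (u p.1 * v p.2) = 0) → ∀ i j, u i * v j = 0) :
    zeroLocus K (sect L) ⊆ {0} := by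
  intro T hT
  rw [mem_zeroLocus_iff] at hT
  have hq : ∀ i k j l, T (i, j) * T (k, l) = T (i, l) * T (k, j) := fun i k j l => by
    have := hT (X (i, j) * X (k, l) - X (i, l) * X (k, j))
      (Ideal.mem_sup_left (by simp [segre]; ring))
    simpa [sub_eq_zero] using this
  by_contra h
  obtain ⟨⟨i₀, j₀⟩, h0⟩ := Function.ne_iff.mp h
  let u : Fin a → K := fun i => T (i, j₀) / T (i₀, j₀)
  let v : Fin b → K := fun j => T (i₀, j)
  have e : ∀ p : Fin a × Fin b, u p.1 * v p.2 = T p := fun p => by
    simp only [u, v]
    rw [div_mul_eq_mul_div, div_eq_iff h0]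
    exact hq p.1 i₀ j₀ p.2
  refine h0 ?_
  rw [← e (i₀, j₀)]
  refine hL u v (fun k => ?_) i₀ j₀
  have := hT (form L k) (Ideal.mem_sup_right (Ideal.subset_span ⟨k, rfl⟩))
  simp only [form, map_sum, map_mul, aeval_C, aeval_X, Algebra.algebraMap_self, RingHom.id_apply] at this
  simpa only [e] using this

theorem exists_pow_mem_sect (hL : ∀ (u : Fin a → K) (v : Fin b → K),
      (∀ k, ∑ p, L k p * (u p.1 * v p.2) = 0) → ∀ i j, u i * v j = 0) :
    ∃ N, ∀ p, (X p : MvPolynomial (Fin a × Fin b) K) ^ N ∈ sect L := by
  have h : ∀ p, (X p : MvPolynomial (Fin a × Fin b) K) ∈ (sect L).radical := fun p => by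
    rw [← vanishingIdeal_zeroLocus_eq_radical (K := K), mem_vanishingIdeal_iff]
    intro T hT
    rw [zeroLocus_sect L hL hT, aeval_X]
    rfl
  choose N hN using h
  exact ⟨∑ p, N p, fun p => Ideal.pow_mem_of_pow_mem _ (hN p)
    (Finset.single_le_sum (fun q _ => Nat.zero_le (N q)) (Finset.mem_univ p))⟩

/-- The Segre cone. -/
noncomputable abbrev cone (K : Type u) [Field K] (a b : ℕ) : Subalgebra K (MvPolynomial (Fin a ⊕ Fin b) K) :=
  (segre : MvPolynomial (Fin a × Fin b) K →ₐ[K] _).range

/-- The forms on the cone. -/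
noncomputable def coneForm (k : Fin c) : cone K a b := ⟨segre (form L k), form L k, rfl⟩

theorem finite_cone (hL : ∀ (u : Fin a → K) (v : Fin b → K),
      (∀ k, ∑ p, L k p * (u p.1 * v p.2) = 0) → ∀ i j, u i * v j = 0) :
    Module.Finite (Algebra.adjoin K (Set.range (coneForm L))) (cone K a b) := by
  classical
  obtain ⟨N, hN⟩ := exists_pow_mem_sect L hL
  let S := Algebra.adjoin K (Set.range (coneForm L))
  let π : MvPolynomial (Fin a × Fin b) K →ₐ[K] cone K a b := (segre).rangeRestrict
  let G : Set (cone K a b) := (fun m : Fin a × Fin b →₀ ℕ => π (monomial m 1)) '' {m | ∀ p, m p ≤ N}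
  have hGfin : G.Finite := by
    refine Set.Finite.image _ ((Set.Finite.pi' fun _ : Fin a × Fin b => Set.finite_Iic N).preimage
      (f := fun m : Fin a × Fin b →₀ ℕ => (m : Fin a × Fin b → ℕ)) DFunLike.coe_injective.injOn)
  have hsmul : ∀ (r : K) (x : cone K a b), x ∈ Submodule.span S G → r • x ∈ Submodule.span S G :=
    fun r x hx => by
      rw [← algebraMap_smul S r x]
      exact Submodule.smul_mem _ _ hx
  have key : ∀ (d : ℕ) (h : MvPolynomial (Fin a × Fin b) K), h.IsHomogeneous d →
      π h ∈ Submodule.span S G := by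
    intro d
    induction d with
    | zero =>
      intro h hh
      obtain ⟨r, rfl⟩ : ∃ r, h = C r := ⟨_, (totalDegree_eq_zero_iff_eq_C).mp (Nat.le_zero.mp hh.totalDegree_le)⟩
      rw [C_apply, ← mul_one r, ← smul_eq_mul, ← smul_monomial, map_smul]
      exact hsmul r _ (Submodule.subset_span ⟨0, fun p => Nat.zero_le _, rfl⟩)
    | succ d ih =>
      intro h hh
      rw [h.as_sum, map_sum]
      refine Submodule.sum_mem _ fun m hm => ?_
      have hmd : m.degree = d + 1 := by
        by_contra hne
        exact (mem_support_iff.mp hm) (hh.coeff_eq_zero hne)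
      by_cases hsmall : ∀ p, m p ≤ N
      · rw [← mul_one (coeff m h), ← smul_eq_mul, ← smul_monomial, map_smul]
        exact hsmul _ _ (Submodule.subset_span ⟨m, hsmall, rfl⟩)
      push Not at hsmall
      obtain ⟨p, hp⟩ := hsmall
      have hmem : monomial m (coeff m h) ∈ sect L := by
        have e : monomial m (coeff m h) =
            monomial (m - Finsupp.single p N) (coeff m h) * (X p) ^ N := by
          rw [X_pow_eq_monomial, monomial_mul, mul_one,
            tsub_add_cancel_of_le (Finsupp.single_le_iff.mpr hp.le)]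
        rw [e]
        exact Ideal.mul_mem_left _ _ (hN p)
      obtain ⟨z, hz, w, hw, hzw⟩ := Submodule.mem_sup.mp hmem
      obtain ⟨q, rfl⟩ := Ideal.mem_span_range_iff_exists_fun.mp hw
      have h1 : segre (monomial m (coeff m h)) = ∑ k, segre (q k) * segre (form L k) := by
        rw [← hzw, map_add, RingHom.mem_ker.mp hz, zero_add, map_sum]
        exact Finset.sum_congr rfl fun k _ => map_mul segre _ _
      have h2 : segre (monomial m (coeff m h)) =
          segre (∑ k, homogeneousComponent d (q k) * form L k) := by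
        have hhom : (monomial m (coeff m h)).IsHomogeneous (d + 1) := isHomogeneous_monomial _ hmd
        have hform : ∀ k, (form L k).IsHomogeneous 1 := fun k =>
          IsHomogeneous.sum _ _ _ fun p _ => (isHomogeneous_X K p).C_mul _
        have h3 := congrArg (homogeneousComponent (2 * (d + 1))) h1
        rw [component_segre, homogeneousComponent_of_mem hhom, if_pos rfl, map_sum] at h3
        rw [h3, map_sum]
        refine Finset.sum_congr rfl fun k _ => ?_
        rw [← map_mul segre, component_segre]
        congr 1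
        conv_lhs => rw [← sum_homogeneousComponent (q k), Finset.sum_mul, map_sum]
        rw [Finset.sum_eq_single d]
        · rw [homogeneousComponent_of_mem ((homogeneousComponent_isHomogeneous d (q k)).mul (hform k)),
            if_pos rfl]
        · intro e _ he
          rw [homogeneousComponent_of_mem ((homogeneousComponent_isHomogeneous e (q k)).mul (hform k)),
            if_neg (by omega)]
        · intro hd
          rw [Finset.mem_range] at hd
          rw [homogeneousComponent_eq_zero (φ := q k) (n := d) (by omega), zero_mul, map_zero]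
      rw [show π (monomial m (coeff m h)) = π (∑ k, homogeneousComponent d (q k) * form L k) from
        Subtype.ext h2, map_sum]
      refine Submodule.sum_mem _ fun k _ => ?_
      rw [map_mul, mul_comm]
      exact Submodule.smul_mem _ (⟨coneForm L k, Algebra.subset_adjoin ⟨k, rfl⟩⟩ : S)
        (ih _ (homogeneousComponent_isHomogeneous d (q k)))
  refine ⟨(Submodule.fg_def).mpr ⟨G, hGfin, eq_top_iff.mpr fun x _ => ?_⟩⟩
  obtain ⟨y, rfl⟩ : ∃ y, π y = x := by
    obtain ⟨y, hy⟩ := x.2
    exact ⟨y, Subtype.ext hy⟩
  rw [← sum_homogeneousComponent y, map_sum]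
  exact Submodule.sum_mem _ fun d _ => key d _ (homogeneousComponent_isHomogeneous d y)

omit [IsAlgClosed K] in
theorem le_trdeg_cone (ha : 0 < a) (hb : 0 < b) : ((a + b - 1 : ℕ) : Cardinal) ≤ Algebra.trdeg K (cone K a b) := by
  classical
  let i₀ : Fin a := ⟨0, ha⟩
  let j₀ : Fin b := ⟨0, hb⟩
  let ι := {i : Fin a // i ≠ i₀} ⊕ Fin b
  let z : ι → cone K a b := Sum.elim
    (fun i => ⟨segre (X (i.1, j₀)), X (i.1, j₀), rfl⟩) (fun j => ⟨segre (X (i₀, j)), X (i₀, j), rfl⟩)
  let F := FractionRing (MvPolynomial ι K)
  let gen : ι → F := fun t => algebraMap (MvPolynomial ι K) F (X t)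
  let ε : MvPolynomial (Fin a ⊕ Fin b) K →ₐ[K] F := aeval (Sum.elim
    (fun i => if h : i = i₀ then 1 else gen (Sum.inl ⟨i, h⟩) / gen (Sum.inr j₀))
    (fun j => gen (Sum.inr j)))
  have hgen : AlgebraicIndependent K gen :=
    (MvPolynomial.algebraicIndependent_X ι K).map' (f := IsScalarTower.toAlgHom K _ F)
      (IsFractionRing.injective (MvPolynomial ι K) F)
  have hz : AlgebraicIndependent K z := by
    refine AlgebraicIndependent.of_comp (ε.comp (cone K a b).val) ?_
    convert hgen using 1
    funext t
    rcases t with ⟨i, hi⟩ | j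
    · have h0 : gen (Sum.inr j₀) ≠ 0 := hgen.ne_zero _
      simp [z, ε, segre, hi]
      exact div_mul_cancel₀ _ h0
    · simp [z, ε, segre]
  refine le_trans (le_of_eq ?_) (hz.comp _ Equiv.ulift.{u}.injective).cardinalMk_le_trdeg
  rw [Cardinal.mk_fintype, Fintype.card_ulift, Fintype.card_sum, Fintype.card_subtype_compl, Fintype.card_fin, Fintype.card_fin,
    Fintype.card_subtype_eq]
  congr 1
  omega

/-- **Hopf's inequality**: a space of bilinear forms without common zero on pure tensors is large. -/
theorem hopf (ha : 0 < a) (hb : 0 < b) (hL : ∀ (u : Fin a → K) (v : Fin b → K),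
      (∀ k, ∑ p, L k p * (u p.1 * v p.2) = 0) → ∀ i j, u i * v j = 0) : a + b ≤ c + 1 := by
  have := finite_cone L hL
  have : Algebra.IsAlgebraic (Algebra.adjoin K (Set.range (coneForm L))) (cone K a b) := inferInstance
  have h1 := (le_trdeg_cone (K := K) ha hb).trans
    (Algebra.IsAlgebraic.trdeg_le_cardinalMk K (Set.range (coneForm L)))
  have h2 := (Cardinal.lift_le.2 h1).trans (Cardinal.mk_range_le_lift (f := coneForm L))
  rw [Cardinal.mk_fin, Cardinal.lift_natCast, Cardinal.lift_natCast, Nat.cast_le] at h2
  omega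

end CurveH0Lib.Hopf
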