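import Groth.Agent.CurveDualLib.DualClosed
import Groth.Agent.CurveH0Lib.Hopf
import Groth.Agent.MiscFlat6.InvDual
import Groth.Agent.FFLib.DegOne
import Groth.Agent.S10976
import Groth.Agent.RRVanLib.GG

/-!
# Clifford's inequality
-/

set_option autoImplicit false
set_option linter.style.haveILetI false
set_option linter.unusedSectionVars false
universe u

open CategoryTheory CategoryTheory.Limits AlgebraicGeometry TopologicalSpace Opposite
open FunFld

noncomputable section

namespace CurveH0Lib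

section FF

variable {k K : Type*} [Field k] [Field K] [Algebra k K] {D E : Divisor k K}

theorem mul_mem_L {a b : K} (ha : a ∈ FunFld.L D) (hb : b ∈ FunFld.L E) : a * b ∈ FunFld.L (D + E) := fun P => by
  rw [map_mul, Finsupp.add_apply, WithZero.exp_add]
  exact mul_le_mul' (ha P) (hb P)

variable [IsAlgClosed k] (hK : FunFld.IsFunctionField k K)

include hK in
/-- Hopf's lemma for spaces of functions. -/
theorem ell_add_ell_le (hD : 0 < ell D) (hE : 0 < ell E) : ell D + ell E ≤ ell (D + E) + 1 := by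
  classical
  haveI := Groth.Agent.S10976.result k K hK D
  haveI := Groth.Agent.S10976.result k K hK E
  haveI := Groth.Agent.S10976.result k K hK (D + E)
  let bA := Module.finBasis k (FunFld.L D)
  let bB := Module.finBasis k (FunFld.L E)
  let bC := Module.finBasis k (FunFld.L (D + E))
  let w : FunFld.L D → FunFld.L E → FunFld.L (D + E) := fun x y => ⟨x.1 * y.1, mul_mem_L x.2 y.2⟩
  refine CurveH0Lib.Hopf.hopf (K := k) (fun c p => bC.repr (w (bA p.1) (bB p.2)) c) hD hE fun u v h i j => ?_
  have hsum : ∑ p : _ × _, (u p.1 * v p.2) • w (bA p.1) (bB p.2) = 0 := by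
    apply bC.repr.injective
    ext c
    rw [map_zero, Finsupp.zero_apply, ← h c, map_sum, Finsupp.finsetSum_apply]
    refine Finset.sum_congr rfl fun p _ => ?_
    rw [map_smul, Finsupp.smul_apply, smul_eq_mul, mul_comm]
  have hprod : ((∑ i, u i • bA i : FunFld.L D) : K) * ((∑ j, v j • bB j : FunFld.L E) : K) = 0 := by
    refine Eq.trans ?_ (congrArg Subtype.val hsum)
    rw [AddSubmonoidClass.coe_finsetSum,
      AddSubmonoidClass.coe_finsetSum, AddSubmonoidClass.coe_finsetSum, Finset.sum_mul_sum, Fintype.sum_prod_type]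
    refine Finset.sum_congr rfl fun a _ => Finset.sum_congr rfl fun b _ => ?_
    show (u a • (bA a : K)) * (v b • (bB b : K)) = (u a * v b) • ((bA a : K) * (bB b : K))
    rw [smul_mul_smul_comm]
  rcases mul_eq_zero.1 hprod with h0 | h0
  · rw [Fintype.linearIndependent_iff.mp bA.linearIndependent u (Subtype.ext h0) i, zero_mul]
  · rw [Fintype.linearIndependent_iff.mp bB.linearIndependent v (Subtype.ext h0) j, mul_zero]

include hK in
/-- On a field of positive genus a divisor of degree one has at most one function. -/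
theorem ell_le_one (hg : 0 < genus k K) (hd : D.deg = 1) : ell D ≤ 1 := by
  by_contra h
  have key : ∀ n : ℕ, n + 2 ≤ ell ((n + 1 : ℕ) • D) := by
    intro n
    induction n with
    | zero => rw [Nat.zero_add, one_nsmul]; omega
    | succ n ih =>
      have := ell_add_ell_le hK (D := (n + 1 : ℕ) • D) (E := D) (by omega) (by omega)
      rw [← succ_nsmul] at this
      omega
  have hdn : ∀ n : ℕ, (n • D).deg = n := fun n => by
    induction n with
    | zero => rw [zero_smul]; exact Groth.Agent.FFLib.deg_zero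
    | succ n ih => rw [succ_nsmul, Groth.Agent.FFLib.deg_add, ih, hd]; push_cast; ring
  have := key (2 * genus k K)
  have h2 := Groth.Agent.FFLib.ell_eq_of_deg_ge hK (D := (2 * genus k K + 1 : ℕ) • D) (by rw [hdn]; push_cast; omega)
  rw [hdn] at h2
  push_cast at h2
  omega

include hK in
/-- Two pencils of degree two differ by a principal divisor when the genus is at least two. -/
theorem exists_mem_L_sub {C : Divisor k K} (hC : IsCanonical k K C) (hg : 2 ≤ genus k K) (hD : D.deg = 2)
    (hE : E.deg = 2) (hD2 : 2 ≤ ell D) (hE2 : 2 ≤ ell E) : ∃ φ : K, φ ≠ 0 ∧ φ ∈ FunFld.L (E - D) := by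
  haveI := Groth.Agent.S10976.result k K hK D
  haveI := Groth.Agent.S10976.result k K hK E
  haveI := Groth.Agent.S10976.result k K hK (D + E)
  have hsmall : ∀ P : Place k K, ell (D - Finsupp.single P 1) ≤ 1 := fun P => ell_le_one hK (by omega) (by
    rw [Groth.Agent.FFLib.deg_sub, hD, Groth.Agent.FFLib.deg_single, Groth.Agent.FFLib.deg_eq_one hK P]
    norm_num)
  obtain ⟨b⟩ : Nonempty (Module.Basis (Fin (ell D)) k (FunFld.L D)) := ⟨Module.finBasis k (FunFld.L D)⟩
  let a₀ := b ⟨0, by omega⟩
  let a₁ := b ⟨1, by omega⟩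
  let Φ : (FunFld.L E × FunFld.L E) →ₗ[k] FunFld.L (D + E) :=
    { toFun := fun p => ⟨a₀.1 * p.1.1 + a₁.1 * p.2.1,
        add_mem (mul_mem_L a₀.2 p.1.2) (mul_mem_L a₁.2 p.2.2)⟩
      map_add' := fun p q => Subtype.ext (by
        show a₀.1 * (p.1.1 + q.1.1) + a₁.1 * (p.2.1 + q.2.1) = _
        simp only [Submodule.coe_add]
        ring)
      map_smul' := fun c p => Subtype.ext (by
        show a₀.1 * (c • p.1.1) + a₁.1 * (c • p.2.1) = c • (a₀.1 * p.1.1 + a₁.1 * p.2.1)
        rw [smul_add, mul_smul_comm, mul_smul_comm]) }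
  have ha₀ : (a₀ : K) ≠ 0 := fun h => b.ne_zero _ (Subtype.ext h)
  by_cases hinj : Function.Injective Φ
  · have h4 := LinearMap.finrank_le_finrank_of_injective hinj
    rw [Module.finrank_prod] at h4
    have hr := Groth.Agent.FFLib.riemann_roch hK hC (D + E)
    rw [Groth.Agent.FFLib.deg_add, hD, hE] at hr
    change ell E + ell E ≤ ell (D + E) at h4
    have hcl := Groth.Agent.FFLib.canonical_ell_deg hK hC
    have h5 := ell_add_ell_le hK (D := D + E) (E := C - (D + E)) (by omega) (by omega)
    rw [add_sub_cancel] at h5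
    omega
  · obtain ⟨⟨x, y⟩, hxy, hne⟩ : ∃ p, Φ p = 0 ∧ p ≠ 0 := by
      by_contra h
      exact hinj ((injective_iff_map_eq_zero Φ).2 fun p hp => by
        by_contra hp0
        exact h ⟨p, hp, hp0⟩)
    have hxy' : a₀.1 * x.1 + a₁.1 * y.1 = 0 := congrArg Subtype.val hxy
    refine ⟨y.1 / a₀.1, ?_, ?_⟩
    · intro h0
      have hy : y = 0 := Subtype.ext ((div_eq_zero_iff.1 h0).resolve_right ha₀)
      have hx : x = 0 := by
        rw [hy, ZeroMemClass.coe_zero, mul_zero, add_zero] at hxy'
        exact Subtype.ext ((mul_eq_zero.1 hxy').resolve_left ha₀)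
      exact hne (by rw [hx, hy]; rfl)
    have h0 : y.1 / a₀.1 * a₀.1 ∈ FunFld.L E := by rw [div_mul_cancel₀ _ ha₀]; exact y.2
    have h1 : y.1 / a₀.1 * a₁.1 ∈ FunFld.L E := by
      rw [show y.1 / a₀.1 * a₁.1 = -x.1 by field_simp; linear_combination hxy']
      exact neg_mem x.2
    intro P
    have hP : ∃ i : Fin 2, WithZero.exp (D P) ≤ P.1 (![a₀.1, a₁.1] i) := by
      by_contra h
      push Not at h
      have hm : ∀ z : K, P.1 z < WithZero.exp (D P) → z ∈ FunFld.L D → z ∈ FunFld.L (D - Finsupp.single P 1) := by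
        intro z hz hzD Q
        by_cases hQ : Q = P
        · subst hQ
          rw [Finsupp.sub_apply, Finsupp.single_eq_same]
          rcases eq_or_ne (Q.1 z) 0 with hz0 | hz0
          · rw [hz0]; exact zero_le'
          · have := (WithZero.log_lt_iff_lt_exp hz0).2 hz
            exact (WithZero.log_le_iff_le_exp hz0).1 (by omega)
        · rw [Finsupp.sub_apply, Finsupp.single_eq_of_ne hQ, sub_zero]
          exact hzD Q
      have hli : LinearIndependent k ![(⟨a₀.1, hm _ (h 0) a₀.2⟩ : FunFld.L (D - Finsupp.single P 1)),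
          ⟨a₁.1, hm _ (h 1) a₁.2⟩] := by
        rw [LinearIndependent.pair_iff]
        intro s t hst
        have hv := congrArg Subtype.val hst
        have hst' : s • a₀ + t • a₁ = 0 := Subtype.ext (by simpa using hv)
        have hb : LinearIndependent k ![a₀, a₁] := by
          refine (linearIndependent_equiv' (Equiv.refl (Fin 2)) ?_).1 (b.linearIndependent.comp ![⟨0, by omega⟩, ⟨1, by omega⟩] (by
            intro i j hij; fin_cases i <;> fin_cases j <;> simp_all))
          funext i
          fin_cases i <;> rfl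
        exact LinearIndependent.pair_iff.1 hb s t hst'
      haveI := Groth.Agent.S10976.result k K hK (D - Finsupp.single P 1)
      have := hli.fintype_card_le_finrank
      have := hsmall P
      simp only [Fintype.card_fin] at *
      change 2 ≤ ell _ at *
      omega
    obtain ⟨i, hi⟩ := hP
    have hmem : y.1 / a₀.1 * ![a₀.1, a₁.1] i ∈ FunFld.L E := by fin_cases i <;> simpa
    have := hmem P
    rw [map_mul] at this
    rw [Finsupp.sub_apply, WithZero.exp_sub, le_div_iff₀ WithZero.exp_pos]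
    exact (mul_le_mul_right hi _).trans this

end FF

section Curve

open CurveDualLib DevissLib

variable {k : Type u} [Field k] [IsAlgClosed k] {X : Scheme.{u}} [X.Over (Spec (CommRingCat.of k))] [IsIntegral X]
  [IsProper (X ↘ Spec (CommRingCat.of k))] [Smooth (X ↘ Spec (CommRingCat.of k))]
  (hdim : topologicalKrullDim X = 1)

attribute [local instance] algFF

include hdim in
/-- Divisors of the factors of a tensor product. -/
theorem exists_divs {L M N : X.Modules} (hL : PicF.IsInvertible L) (hM : PicF.IsInvertible M)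
    (hN : PicF.IsInvertible N) (e : CohB1.tensorMod L M ≅ N) {ω : Gst N} (hω : IsGen N (genericPoint X) ω)
    {C : Divisor k X.functionField} (hC : IsDiv hdim N ω C) :
    ∃ D E : Divisor k X.functionField, C = D + E ∧ Module.finrank k (Coh.HH X L 0) = ell D ∧
      Module.finrank k (Coh.HH X M 0) = ell E ∧ Curv2.deg k X L 1 = D.deg ∧ Curv2.deg k X M 1 = E.deg := by
  let η := genericPoint X
  obtain ⟨σ, hσ⟩ := exists_gen hL η
  obtain ⟨τ₀, hτ₀⟩ := exists_gen hM η
  obtain ⟨c, hc, hcω⟩ := exists_unit_smul (isGen_map e (isGen_stT hL hM hσ hτ₀)) hω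
  have hτ : IsGen M η (c • τ₀) := isGen_unit_smul hτ₀ hc
  obtain ⟨D, hD⟩ := exists_isDiv (k := k) hdim hL hσ
  obtain ⟨E, hE⟩ := exists_isDiv (k := k) hdim hM hτ
  have hDE := (IsDiv.stT hdim hL hM hD hE).map hdim e
  rw [show ((St η).map e.hom).hom (stT L M η σ (c • τ₀)) = ω by rw [map_smul, map_smul, ← hcω]] at hDE
  refine ⟨D, E, Finsupp.ext fun P => ?_, finrank_h0_eq_ell hdim hL hσ hD, finrank_h0_eq_ell hdim hM hτ hE,
    deg_eq_deg hdim hL hσ hD, deg_eq_deg hdim hM hτ hE⟩
  obtain ⟨x, hx, rfl⟩ := exists_point (k := k) hdim P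
  obtain ⟨b, hb, g, hg0, hg, hord⟩ := hDE x hx
  rw [← hord, IsDiv.spec hdim hN hC hx hb hg0 hg]

include hdim in
/-- Clifford's inequality. -/
theorem clifford {L M : X.Modules} (hL : PicF.IsInvertible L) (hM : PicF.IsInvertible M)
    (e : CohB1.tensorMod L M ≅ Omega.sheaf (X ↘ Spec (CommRingCat.of k)))
    (h1 : 1 ≤ Module.finrank k (Coh.HH X L 0)) (h2 : 1 ≤ Module.finrank k (Coh.HH X M 0)) :
    2 * (Module.finrank k (Coh.HH X L 0) : ℤ) ≤ Curv2.deg k X L 1 + 2 := by
  obtain ⟨C, ω, hω, hC, hcan⟩ := exists_canonical (k := k) hdim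
  obtain ⟨D, E, rfl, hlD, hlE, hdD, -⟩ := exists_divs hdim hL hM (omega_invertible hdim) e hω hC
  have hK := isFunctionField (k := k) (X := X) hdim
  have h := ell_add_ell_le hK (D := D) (E := E) (by omega) (by omega)
  have hr := Groth.Agent.FFLib.riemann_roch hK hcan D
  rw [add_sub_cancel_left] at hr
  have hl := (Groth.Agent.FFLib.canonical_ell_deg hK hcan).1
  omega

include hdim in
/-- Two pencils of degree two are isomorphic in genus at least two. -/
theorem nonempty_iso_of_pencils (hg : 2 ≤ Curv2.genus k X) {M M' : X.Modules} (hM : PicF.IsInvertible M)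
    (hM' : PicF.IsInvertible M') (hd : Curv2.deg k X M 1 = 2) (hd' : Curv2.deg k X M' 1 = 2)
    (h2 : 2 ≤ Module.finrank k (Coh.HH X M 0)) (h2' : 2 ≤ Module.finrank k (Coh.HH X M' 0)) :
    Nonempty (M ≅ M') := by
  obtain ⟨eM⟩ := MiscFlat6.nonempty_dualIso hM
  let N := CohB1.tensorMod (MiscFlat6.dual M) M'
  have hN : PicF.IsInvertible N := HilbPolyLib.isInvertible_tensor (MiscFlat6.dual_isInvertible hM) hM'
  have e : CohB1.tensorMod M N ≅ M' :=
    (HilbPolyLib.assocIso M (MiscFlat6.dual M) M').symm ≪≫ HilbPolyLib.congrLeft eM M' ≪≫ HilbPolyLib.unitLeft M'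
  obtain ⟨σ, hσ⟩ := exists_gen hM' (genericPoint X)
  obtain ⟨F, hF⟩ := exists_isDiv (k := k) hdim hM' hσ
  obtain ⟨D, E, rfl, hlD, hlE, hdD, hdE⟩ := exists_divs hdim hM hN hM' e hσ hF
  rw [finrank_h0_eq_ell hdim hM' hσ hF] at h2'
  rw [deg_eq_deg hdim hM' hσ hF] at hd'
  obtain ⟨C, ω, hω, hC, hcan⟩ := exists_canonical (k := k) hdim
  have hK := isFunctionField (k := k) (X := X) hdim
  obtain ⟨φ, hφ0, hφ⟩ := exists_mem_L_sub hK hcan (by rw [genus_eq hdim]; exact hg) (D := D) (E := D + E)
    (hdD ▸ hd) hd' (hlD ▸ h2) h2'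
  rw [add_sub_cancel_left] at hφ
  haveI := Groth.Agent.S10976.result k X.functionField hK E
  have hpos : 0 < ell E := Module.finrank_pos_iff_exists_ne_zero.2 ⟨⟨φ, hφ⟩, fun h => hφ0 (congrArg Subtype.val h)⟩
  haveI : Nontrivial (Coh.HH X N 0) := Module.nontrivial_of_finrank_pos (R := k) (by omega)
  obtain ⟨s, hs⟩ := CurvLib.exists_hom_ne_zero (L := N) inferInstance
  have hdN := GenusZeroLib.deg_tensor k hdim hM hN
  rw [CurvLib.deg_congr (k := k) e 1, deg_eq_deg hdim hM' hσ hF, hd', hd] at hdN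
  haveI : IsIso s := CurvLib.isIso_of_euler_le (k := k) CurvLib.isInvertible_structureModule hN hdim hs (by
    simp only [Curv2.deg] at hdN
    omega)
  exact ⟨(PicPnLib.unitRight M).symm ≪≫ HilbPolyLib.congrRight M (asIso s) ≪≫ e⟩

end Curve

end CurveH0Lib

end
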