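import Groth.Agent.SteinLib.Conn
import Groth.Agent.GenusZeroLib.Mult

/-!
# Integral proper schemes with only constant global functions are geometrically connected
-/

set_option autoImplicit false
universe u

open CategoryTheory AlgebraicGeometry TopologicalSpace

namespace CurveH0Lib

variable (k : Type u) [Field k] {X : Scheme.{u}} [X.Over (Spec (CommRingCat.of k))]
  [IsProper (X ↘ Spec (CommRingCat.of k))] [IsIntegral X]

theorem geometricallyConnected_of_h0 (h0 : Module.finrank k (Coh.HH X (Coh.structureModule X) 0) = 1) :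
    GeometricallyConnected (X ↘ Spec (CommRingCat.of k)) := by
  refine SteinLib.geometricallyConnected_of_isIso_app _ fun U _ => ?_
  obtain ⟨f, hf⟩ : ∃ f : X ⟶ Spec (CommRingCat.of k), f = X ↘ Spec (CommRingCat.of k) := ⟨_, rfl⟩
  rw [← hf]
  rcases (U : Set ↥(Spec (CommRingCat.of k))).eq_empty_or_nonempty with hU | ⟨x, hx⟩
  · obtain rfl : U = ⊥ := Opens.ext hU
    have h1 : Subsingleton Γ(Spec (CommRingCat.of k), ⊥) := inferInstance
    have h2 : Subsingleton Γ(X, f ⁻¹ᵁ (⊥ : (Spec (CommRingCat.of k)).Opens)) := by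
      rw [Scheme.Hom.preimage_bot]; infer_instance
    exact (ConcreteCategory.isIso_iff_bijective _).2
      ⟨fun a b _ => Subsingleton.elim a b, fun b => ⟨0, h2.elim _ _⟩⟩
  · obtain rfl : U = ⊤ := eq_top_iff.2 fun y _ => by
      rw [Subsingleton.elim (α := PrimeSpectrum k) y x]; exact hx
    refine (ConcreteCategory.isIso_iff_bijective _).2 ⟨?_, fun c => ?_⟩
    · intro a b hab
      let e := (Scheme.ΓSpecIso (CommRingCat.of k)).commRingCatIsoToRingEquiv
      have hinj : Function.Injective (GenusZeroLib.ρ k (X := X)) := by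
        haveI : Nonempty (⊤ : X.Opens) := ⟨⟨genericPoint X, trivial⟩⟩
        exact (GenusZeroLib.ρ k (X := X)).injective
      have hab' : GenusZeroLib.ρ k (X := X) (e a) = GenusZeroLib.ρ k (X := X) (e b) := by
        subst hf
        show (X ↘ Spec (CommRingCat.of k)).appTop (e.symm (e a)) = (X ↘ Spec (CommRingCat.of k)).appTop (e.symm (e b))
        rw [e.symm_apply_apply, e.symm_apply_apply]
        exact hab
      exact e.injective (hinj hab')
    · obtain ⟨r, hr⟩ := GenusZeroLib.exists_const (k := k) h0 c
      subst hf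
      exact ⟨(Scheme.ΓSpecIso (CommRingCat.of k)).inv r, hr⟩

end CurveH0Lib
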