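import Groth.Agent.CurveH0Lib.Clifford
import Groth.Agent.S11000
import Groth.Agent.S11004

/-!
# The equality case of Clifford's inequality
-/

set_option autoImplicit false
set_option linter.unusedSectionVars false
universe u v

open FunFld
open Groth.Agent.FFLib hiding degHom

noncomputable section

namespace CurveH0Lib

variable {k : Type u} {K : Type v} [Field k] [IsAlgClosed k] [Field K] [Algebra k K]
  (hK : FunFld.IsFunctionField k K) {C : Divisor k K} (hC : IsCanonical k K C)

include hK hC in
/-- Clifford's inequality in symmetric form. -/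
theorem ell_add_ell_sub_le {D : Divisor k K} (h1 : 0 < ell D) (h2 : 0 < ell (C - D)) :
    ell D + ell (C - D) ≤ genus k K + 1 := by
  have h := ell_add_ell_le hK h1 h2
  rwa [add_sub_cancel, (canonical_ell_deg hK hC).1] at h

include hK hC in
/-- A special divisor attaining Clifford's bound forces a pencil of degree two. -/
theorem exists_g12 : ∀ (d : ℕ) (D : Divisor k K), D.deg = d → 0 < d → 0 < ell D → 0 < ell (C - D) →
    2 * (ell D : ℤ) = d + 2 → ell D ≠ genus k K → ∃ N : Divisor k K, N.deg = 2 ∧ 2 ≤ ell N := by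
  classical
  intro d
  induction d using Nat.strong_induction_on with
  | _ d ih =>
  intro D hd hd0 hD hCD heq hg
  rcases (show d = 2 ∨ 4 ≤ d by omega) with rfl | hd4
  · exact ⟨D, hd, by omega⟩
  obtain ⟨hlC, hdC⟩ := canonical_ell_deg hK hC
  have hsum := ell_add_ell_sub_le hK hC hD hCD
  have hrr := riemann_roch hK hC D
  obtain ⟨z, hz, hE⟩ := exists_effective_of_ell_pos hK.1 hCD
  set E := C - D + FunFld.div k z with hEdef
  have hlE : ell E = ell (C - D) := ell_add_div hK.1 _ hz
  have hEd : E.deg = 2 * genus k K - 2 - d := by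
    rw [hEdef, deg_add, deg_sub, deg_div hK.1, hdC, hd]; ring
  have hE0 : E ≠ 0 := fun h => by
    rw [h, deg_zero] at hEd
    rw [h, ell_zero hK] at hlE
    omega
  obtain ⟨P, hP⟩ := Finsupp.support_nonempty_iff.2 hE0
  haveI : PerfectField k := inferInstance
  obtain ⟨Q, -, hQ⟩ := (Groth.Agent.S11004.result k K hK (Groth.Agent.S11000.result k K hK)).exists_notMem_finset E.support
  have hPQ : P ≠ Q := fun h => hQ (h ▸ hP)
  set S : Divisor k K := Finsupp.single P 1 + Finsupp.single Q 1 with hS
  have hSd : S.deg = 2 := by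
    rw [hS, deg_add, deg_single, deg_single, deg_eq_one hK, deg_eq_one hK]; norm_num
  have hpos : 0 < ell (D - S) := by
    have := riemann_roch hK hC (D - S)
    rw [deg_sub, hd, hSd] at this
    have h2 : ell (C - D) ≤ ell (C - (D - S)) := ell_mono hK.1 (by
      intro R
      simp only [hS, Finsupp.sub_apply, Finsupp.add_apply, Finsupp.single_apply]
      split_ifs <;> omega)
    omega
  obtain ⟨w, hw, hF⟩ := exists_effective_of_ell_pos hK.1 hpos
  set D' := D + FunFld.div k w with hD'def
  have hSle : S ≤ D' := by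
    intro R
    have := hF R
    simp only [hD'def, Finsupp.coe_zero, Pi.zero_apply, Finsupp.sub_apply, Finsupp.add_apply] at this ⊢
    omega
  have hD'0 : 0 ≤ D' := le_trans (fun R => by
    simp only [hS, Finsupp.coe_zero, Pi.zero_apply, Finsupp.add_apply, Finsupp.single_apply]
    split_ifs <;> omega) hSle
  have hlD' : ell D' = ell D := ell_add_div hK.1 _ hw
  set G := D' ⊓ E with hG
  set U := D' ⊔ E with hU
  have hGU : G + U = C + FunFld.div k (w * z) := by
    ext R
    rw [hG, hU, hD'def, hEdef, Finsupp.add_apply, Finsupp.inf_apply, Finsupp.sup_apply, div_mul hK.1 hw hz]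
    simp only [Finsupp.add_apply, Finsupp.sub_apply]
    omega
  have hUeq : ell U = ell (C - G) := by
    rw [show U = C - G + FunFld.div k (w * z) by linear_combination (norm := abel) hGU,
      ell_add_div hK.1 _ (mul_ne_zero hw hz)]
  have hlat : ell D' + ell E ≤ ell G + ell U := by
    haveI := finiteDimensional_L hK.1 U
    haveI := finiteDimensional_L hK.1 D'
    haveI := finiteDimensional_L hK.1 E
    haveI := finiteDimensional_L hK.1 G
    have h := Submodule.finrank_sup_add_finrank_inf_eq (FunFld.L (k := k) (K := K) D') (FunFld.L E)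
    have h1 : FunFld.L (k := k) (K := K) D' ⊔ FunFld.L E ≤ FunFld.L U := sup_le (L_mono le_sup_left) (L_mono le_sup_right)
    have h2 : FunFld.L (k := k) (K := K) D' ⊓ FunFld.L E ≤ FunFld.L G := by
      intro x hx R
      rw [hG, Finsupp.inf_apply]
      rcases le_total (D' R) (E R) with h | h
      · rw [inf_eq_left.2 h]; exact hx.1 R
      · rw [inf_eq_right.2 h]; exact hx.2 R
    have h3 := Submodule.finrank_mono h1
    have h4 := Submodule.finrank_mono h2
    show Module.finrank k (FunFld.L (k := k) (K := K) D') + Module.finrank k (FunFld.L (k := k) (K := K) E) ≤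
      Module.finrank k (FunFld.L (k := k) (K := K) G) + Module.finrank k (FunFld.L (k := k) (K := K) U)
    omega
  have hG0 : 0 ≤ G := le_inf hD'0 hE
  have hlG : 0 < ell G := by
    have := ell_mono hK.1 hG0
    rw [ell_zero hK] at this
    omega
  have hlU : 0 < ell U := by
    have := ell_mono hK.1 (le_trans hD'0 (le_sup_left : D' ≤ D' ⊔ E))
    rw [ell_zero hK] at this
    exact this
  have hGsum := ell_add_ell_sub_le hK hC hlG (hUeq ▸ hlU)
  have hGrr := riemann_roch hK hC G
  have hPG : 1 ≤ G P := by
    rw [hG, Finsupp.inf_apply]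
    refine le_inf ?_ ?_
    · have := hSle P
      simp only [hS, Finsupp.add_apply, Finsupp.single_apply, if_pos trivial, if_neg hPQ.symm] at this
      omega
    · have h1 : E P ≠ 0 := Finsupp.mem_support_iff.1 hP
      have h2 : (0 : ℤ) ≤ E P := hE P
      omega
  have hGpos : 0 < G.deg := by
    by_contra hle
    have hd0' : 0 ≤ G.deg := by
      rw [Divisor.deg, Finsupp.sum]
      exact Finset.sum_nonneg fun R _ => mul_nonneg (hG0 R) (Int.natCast_nonneg _)
    rw [eq_zero_of_deg_eq_zero hK hG0 (by omega)] at hPG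
    simp at hPG
  have hGlt : G.deg < d := by
    have h1 : 0 ≤ D' - G - Finsupp.single Q 1 := by
      intro R
      have h2 := hSle R
      simp only [hS, Finsupp.add_apply, Finsupp.single_apply] at h2
      simp only [hG, Finsupp.coe_zero, Pi.zero_apply, Finsupp.sub_apply, Finsupp.inf_apply, Finsupp.single_apply]
      by_cases hR : Q = R
      · subst hR
        rw [Finsupp.notMem_support_iff.1 hQ, if_pos rfl, if_neg hPQ] at *
        omega
      · rw [if_neg hR]
        omega
    have h3 : 0 ≤ (D' - G - Finsupp.single Q 1).deg := by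
      rw [Divisor.deg, Finsupp.sum]
      exact Finset.sum_nonneg fun R _ => mul_nonneg (h1 R) (Int.natCast_nonneg _)
    rw [deg_sub, deg_sub, deg_single, deg_eq_one hK, hD'def, deg_add, deg_div hK.1, hd] at h3
    omega
  have hGle : ell G ≤ ell D' := ell_mono hK.1 inf_le_left
  obtain ⟨e, he⟩ : ∃ e : ℕ, G.deg = e := ⟨G.deg.toNat, by omega⟩
  refine ih e (by omega) G he (by omega) hlG (hUeq ▸ hlU) (by omega) (by omega)

include hK in
/-- Multiples of a pencil. -/
theorem succ_le_ell_nsmul {N : Divisor k K} (h : 2 ≤ ell N) (n : ℕ) : n + 1 ≤ ell (n • N) := by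
  induction n with
  | zero => rw [zero_nsmul, ell_zero hK]
  | succ n ih =>
    have := ell_add_ell_le hK (D := n • N) (E := N) (by omega) (by omega)
    rw [← succ_nsmul] at this
    omega

include hK hC in
/-- A divisor of degree `2g-2` with at least `g` functions is canonical up to equivalence. -/
theorem exists_eq_canonical_add_div {A : Divisor k K} (hd : A.deg = 2 * genus k K - 2) (hl : genus k K ≤ ell A) :
    ∃ f : K, f ≠ 0 ∧ A = C + FunFld.div k f := by
  have hr := riemann_roch hK hC A
  have hdC := (canonical_ell_deg hK hC).2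
  obtain ⟨z, hz, he⟩ := exists_effective_of_ell_pos hK.1 (D := C - A) (by omega)
  have h0 := eq_zero_of_deg_eq_zero hK he (by rw [deg_add, deg_sub, deg_div hK.1, hdC, hd]; ring)
  exact ⟨z, hz, by linear_combination (norm := abel) -h0⟩

include hK hC in
/-- The equality case: a multiple of a pencil. -/
theorem exists_pencil_of_clifford_eq {D : Divisor k K} (hD : 0 < ell D) (hCD : 0 < ell (C - D))
    (heq : 2 * (ell D : ℤ) = D.deg + 2) (h0 : D.deg ≠ 0) (hg : ell D ≠ genus k K) :
    ∃ (N : Divisor k K) (f : K), N.deg = 2 ∧ 2 ≤ ell N ∧ f ≠ 0 ∧ D = (ell D - 1) • N + FunFld.div k f := by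
  obtain ⟨d, hd⟩ : ∃ d : ℕ, D.deg = d := ⟨D.deg.toNat, by omega⟩
  obtain ⟨N, hN, hN2⟩ := exists_g12 hK hC d D hd (by omega) hD hCD (by omega) hg
  have hle : ell D ≤ genus k K := by
    have := ell_add_ell_sub_le hK hC hD hCD
    omega
  have hl1 := succ_le_ell_nsmul hK hN2 (genus k K - 1)
  obtain ⟨f, hf, hfe⟩ := exists_eq_canonical_add_div hK hC (A := (genus k K - 1) • N)
    (by rw [deg_nsmul, hN]; omega) (by omega)
  have hl2 := succ_le_ell_nsmul hK hN2 (genus k K - ell D)
  have h3 := ell_add_ell_le hK (D := D) (E := (genus k K - ell D) • N) hD (by omega)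
  obtain ⟨g, hg', hge⟩ := exists_eq_canonical_add_div hK hC (A := D + (genus k K - ell D) • N)
    (by rw [deg_add, deg_nsmul, hN]; omega) (by omega)
  refine ⟨N, g * f⁻¹, hN, hN2, mul_ne_zero hg' (inv_ne_zero hf), ?_⟩
  rw [div_mul hK.1 hg' (inv_ne_zero hf), div_inv hK.1]
  rw [show genus k K - 1 = (ell D - 1) + (genus k K - ell D) by omega, add_nsmul] at hfe
  linear_combination (norm := abel) hge - hfe

end CurveH0Lib

end
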