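import Groth.Agent.CurveH0Lib.NineThree
import Groth.Agent.CurveH0Lib.CliffordEq

/-!
# Clifford index one
-/

set_option autoImplicit false
set_option linter.unusedSectionVars false
universe u v

open FunFld
open Groth.Agent.FFLib hiding degHom

noncomputable section

namespace CurveH0Lib.CliffOne

variable {k : Type u} {K : Type v} [Field k] [IsAlgClosed k] [Field K] [Algebra k K]
  (hK : FunFld.IsFunctionField k K) {C : Divisor k K} (hC : IsCanonical k K C)

include hK hC in
/-- Without pencils of degree two, special pencils have Clifford index at least one. -/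
theorem cliff_ge_one (h2 : ∀ A : Divisor k K, A.deg = 2 → ell A ≤ 1) (D : Divisor k K) (hD : 2 ≤ ell D)
    (hD' : 2 ≤ ell (C - D)) : 2 * (ell D : ℤ) + (-1) ≤ D.deg := by
  have hs := ell_add_ell_sub_le hK hC (D := D) (by omega) (by omega)
  have hr := riemann_roch hK hC D
  by_contra h
  obtain ⟨N, f, hN, hN2, -, -⟩ := exists_pencil_of_clifford_eq hK hC (D := D) (by omega) (by omega) (by omega)
    (by omega) (by omega)
  exact absurd (h2 N hN) (by omega)

variable (hmin : ∀ D : Divisor k K, 2 ≤ ell D → 2 ≤ ell (C - D) → 2 * (ell D : ℤ) + (-1) ≤ D.deg)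

include hK hC hmin in
theorem g13_or_g25_aux (hg : 4 ≤ genus k K) : ∀ (l : ℕ) (D : Divisor k K), ell D = l → D.deg = 2 * (l : ℤ) - 1 →
    2 ≤ l → 2 * l ≤ genus k K →
    (∃ N : Divisor k K, N.deg = 3 ∧ 2 ≤ ell N) ∨ ∃ N : Divisor k K, N.deg = 5 ∧ 3 ≤ ell N := by
  classical
  intro l
  induction l using Nat.strong_induction_on with
  | _ l ih =>
  intro D hl hd h2l hgl
  rcases (show l = 2 ∨ l = 3 ∨ 4 ≤ l by omega) with h | h | h4
  · exact Or.inl ⟨D, by omega, by omega⟩
  · exact Or.inr ⟨D, by omega, by omega⟩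
  by_cases h3 : ∃ N : Divisor k K, N.deg = 3 ∧ 2 ≤ ell N
  · exact Or.inl h3
  push Not at h3
  obtain ⟨P, -, -⟩ :=
    (Groth.Agent.S11004.result k K hK (Groth.Agent.S11000.result k K hK)).exists_notMem_finset (∅ : Finset (Place k K))
  have hd1 : ∀ P : Place k K, Divisor.deg (Finsupp.single P (1 : ℤ)) = 1 := fun P => by
    rw [deg_single, deg_eq_one hK]; norm_num
  have hpos : ∀ A : Divisor k K, 2 ≤ ell A → 0 ≤ A.deg := fun A hA => by
    obtain ⟨z, hz, he⟩ := exists_effective_of_ell_pos hK.1 (D := A) (by omega)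
    have h0 : 0 ≤ (A + FunFld.div k z).deg := by
      simpa using deg_mono he
    rwa [deg_add, deg_div hK.1, add_zero] at h0
  -- a pencil of least degree
  have hex : ∃ n : ℕ, ∃ A : Divisor k K, A.deg = n ∧ 2 ≤ ell A := ⟨l + 1, by
    have hdeg : (((l - 2 : ℕ) : ℤ) • Finsupp.single P (1 : ℤ)) = Finsupp.single P ((l - 2 : ℕ) : ℤ) := by simp
    refine ⟨D - Finsupp.single P ((l - 2 : ℕ) : ℤ), ?_, ?_⟩
    · rw [deg_sub, deg_single, deg_eq_one hK, hd]; push_cast; omega
    · have := ell_sub_le hK.1 (D - Finsupp.single P ((l - 2 : ℕ) : ℤ)) D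
        (sub_le_self _ (Finsupp.single_nonneg.2 (Int.natCast_nonneg _)))
      rw [deg_sub, deg_single, deg_eq_one hK] at this
      push_cast at this
      omega⟩
  let n := Nat.find hex
  obtain ⟨A, hA, hA2⟩ := Nat.find_spec hex
  have hnle : n ≤ l + 1 := Nat.find_le ⟨D - Finsupp.single P ((l - 2 : ℕ) : ℤ), by
    rw [deg_sub, deg_single, deg_eq_one hK, hd]; push_cast; omega, by
    have := ell_sub_le hK.1 (D - Finsupp.single P ((l - 2 : ℕ) : ℤ)) D
      (sub_le_self _ (Finsupp.single_nonneg.2 (Int.natCast_nonneg _)))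
    rw [deg_sub, deg_single, deg_eq_one hK] at this
    push_cast at this
    omega⟩
  have hmin' : ∀ B : Divisor k K, B.deg < n → ell B ≤ 1 := fun B hB => by
    by_contra hB2
    have h0 := hpos B (by omega)
    exact Nat.find_min hex (m := B.deg.toNat) (show B.deg.toNat < Nat.find hex by omega) ⟨B, by omega, by omega⟩
  have hn1 : 1 ≤ n := by
    by_contra h
    have h0 : A.deg = 0 := by rw [hA]; exact_mod_cast (show n = 0 by omega)
    obtain ⟨z, hz, he⟩ := exists_effective_of_ell_pos hK.1 (D := A) (by omega)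
    have h' := eq_zero_of_deg_eq_zero hK he (by rw [deg_add, deg_div hK.1, h0, add_zero])
    have h'' := ell_add_div hK.1 A hz
    rw [h', ell_zero hK] at h''
    omega
  have hbpf : ∀ Q, ell (A - Finsupp.single Q 1) < ell A := fun Q => by
    have := hmin' (A - Finsupp.single Q 1) (by rw [deg_sub, hA, hd1]; omega)
    omega
  have hA1 : ell A = 2 := by
    have h1 := ell_sub_le hK.1 (A - Finsupp.single P 1) A (sub_le_self _ (Finsupp.single_nonneg.2 zero_le_one))
    have := hmin' (A - Finsupp.single P 1) (by rw [deg_sub, hA, hd1]; omega)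
    rw [deg_sub A (Finsupp.single P 1), hd1] at h1
    omega
  have hA4 : 4 ≤ n := by
    by_contra h
    rcases (show n ≤ 2 ∨ n = 3 by omega) with hn | hn
    · have hr := riemann_roch hK hC A
      have := hmin A hA2 (by omega)
      omega
    · have := h3 A (by rw [hA]; exact_mod_cast hn)
      omega
  have htr := Nine.pencil_trick hK (D := A) (H := D) hA2 hbpf hA1
  have hdA : (A + D).deg = (n : ℤ) + (2 * (l : ℤ) - 1) := by rw [deg_add, hA, hd]
  have hdB : (D - A).deg = (2 * (l : ℤ) - 1) - n := by rw [deg_sub, hd, hA]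
  have hrA := riemann_roch hK hC (A + D)
  have hrB := riemann_roch hK hC (D - A)
  rcases le_or_gt (ell (D - A)) 1 with hq | hq
  · have := hmin (A + D) (by omega) (by omega)
    omega
  · have hB := hmin (D - A) (by omega) (by omega)
    have hP := hmin (A + D) (by omega) (by omega)
    exact ih (ell (D - A)) (by omega) (D - A) rfl (by omega) (by omega) (by omega)

include hK hC hmin in
/-- Clifford index one forces a trigonal pencil or a net of degree five. -/
theorem g13_or_g25 (hg : 4 ≤ genus k K) {D : Divisor k K} (h0 : 2 ≤ ell D) (h1 : 2 ≤ ell (C - D))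
    (he : D.deg = 2 * (ell D : ℤ) - 1) :
    (∃ N : Divisor k K, N.deg = 3 ∧ 2 ≤ ell N) ∨ ∃ N : Divisor k K, N.deg = 5 ∧ 3 ≤ ell N := by
  have hr := riemann_roch hK hC D
  have hdC := (canonical_ell_deg hK hC).2
  rcases le_or_gt (2 * ell D) (genus k K) with h | h
  · exact g13_or_g25_aux hK hC hmin hg _ D rfl he h0 h
  · refine g13_or_g25_aux hK hC hmin hg (ell (C - D)) (C - D) rfl ?_ h1 (by omega)
    rw [deg_sub, hdC]
    omega

include hK hC hmin in
/-- On a trigonal curve only pencils attain Clifford index one. -/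
theorem not_cliff_one_of_g13 (h2 : ∀ A : Divisor k K, A.deg ≤ 2 → ell A ≤ 1) {T : Divisor k K} (hT : T.deg = 3)
    (hT2 : 2 ≤ ell T) {D : Divisor k K} (hd : D.deg = 2 * (ell D : ℤ) - 1) (h3 : 3 ≤ ell D)
    (hg : 2 * ell D ≤ genus k K) : False := by
  classical
  have hd1 : ∀ P : Place k K, Divisor.deg (Finsupp.single P (1 : ℤ)) = 1 := fun P => by
    rw [deg_single, deg_eq_one hK]; norm_num
  obtain ⟨P, -, -⟩ :=
    (Groth.Agent.S11004.result k K hK (Groth.Agent.S11000.result k K hK)).exists_notMem_finset (∅ : Finset (Place k K))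
  have hbpf : ∀ Q, ell (T - Finsupp.single Q 1) < ell T := fun Q => by
    have := h2 (T - Finsupp.single Q 1) (by rw [deg_sub, hT, hd1]; norm_num)
    omega
  have hT1 : ell T = 2 := by
    have h1 := ell_sub_le hK.1 (T - Finsupp.single P 1) T (sub_le_self _ (Finsupp.single_nonneg.2 zero_le_one))
    have := h2 (T - Finsupp.single P 1) (by rw [deg_sub, hT, hd1]; norm_num)
    rw [deg_sub T (Finsupp.single P 1), hd1] at h1
    omega
  have htr := Nine.pencil_trick hK (D := T) (H := D) hT2 hbpf hT1
  have hdA : (T + D).deg = 2 * (ell D : ℤ) + 2 := by rw [deg_add, hT, hd]; ring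
  have hdB : (D - T).deg = 2 * (ell D : ℤ) - 4 := by rw [deg_sub, hd, hT]; ring
  have hrA := riemann_roch hK hC (T + D)
  have hrB := riemann_roch hK hC (D - T)
  have hrD := riemann_roch hK hC D
  rcases le_or_gt (ell (D - T)) 1 with hq | hq
  · have := hmin (T + D) (by omega) (by omega)
    omega
  · have := hmin (D - T) (by omega) (by omega)
    have := hmin (T + D) (by omega) (by omega)
    omega

include hK in
/-- A net of degree five without trigonal pencils is a smooth plane quintic. -/
theorem g25_separates {E : Divisor k K} (hE : E.deg = 5) (h3 : 3 ≤ ell E)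
    (h3' : ∀ N : Divisor k K, N.deg = 3 → ell N ≤ 1) :
    ell E = 3 ∧ (∀ P Q : Place k K, ell (E - Finsupp.single P 1 - Finsupp.single Q 1) + 2 = ell E) ∧
      genus k K = 6 := by
  classical
  have hd1 : ∀ P : Place k K, Divisor.deg (Finsupp.single P (1 : ℤ)) = 1 := fun P => by
    rw [deg_single, deg_eq_one hK]; norm_num
  have hstep : ∀ (D : Divisor k K) (P : Place k K), ell D ≤ ell (D - Finsupp.single P 1) + 1 := fun D P => by
    have h := ell_sub_le hK.1 (D - Finsupp.single P 1) D (sub_le_self _ (Finsupp.single_nonneg.2 zero_le_one))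
    rw [deg_sub, hd1] at h
    omega
  have hdrop : ∀ P Q : Place k K, ell E ≤ ell (E - Finsupp.single P 1 - Finsupp.single Q 1) + 2 ∧
      ell (E - Finsupp.single P 1 - Finsupp.single Q 1) ≤ 1 := fun P Q => by
    have h1 := hstep E P
    have h2 := hstep (E - Finsupp.single P 1) Q
    exact ⟨by omega, h3' _ (by rw [deg_sub, deg_sub, hd1, hd1, hE]; norm_num)⟩
  obtain ⟨P₀, -, -⟩ :=
    (Groth.Agent.S11004.result k K hK (Groth.Agent.S11000.result k K hK)).exists_notMem_finset (∅ : Finset (Place k K))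
  have hl : ell E = 3 := by have := hdrop P₀ P₀; omega
  have hsep : ∀ P Q : Place k K, ell (E - Finsupp.single P 1 - Finsupp.single Q 1) + 2 = ell E := fun P Q => by
    have := hdrop P Q; omega
  refine ⟨hl, hsep, ?_⟩
  have := Nine.two_genus_of_separates hK hl fun P Q => (hsep P Q).le
  rw [hE] at this
  omega

end CurveH0Lib.CliffOne

end
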