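import Groth.Agent.CurveH0Lib.CliffordEq

/-!
# Special linear series on curves of genus nine
-/

set_option autoImplicit false
set_option linter.unusedSectionVars false
universe u v

open FunFld
open Groth.Agent.FFLib hiding degHom
open WithZero (exp exp_add exp_le_exp)

noncomputable section

namespace CurveH0Lib.Nine

variable {k : Type u} {K : Type v} [Field k] [IsAlgClosed k] [Field K] [Algebra k K]
  (hK : FunFld.IsFunctionField k K)

local notation "α" => algebraMap k K

theorem smul_add_mem {D : Divisor k K} {x y : K} (a b : k) (hx : x ∈ L D) (hy : y ∈ L D) : α a * x + α b * y ∈ L D := by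
  rw [← Algebra.smul_def, ← Algebra.smul_def]
  exact add_mem (Submodule.smul_mem _ _ hx) (Submodule.smul_mem _ _ hy)

theorem exists_root_quadratic {a : k} (ha : a ≠ 0) (b c : k) : ∃ r : k, a * r ^ 2 + b * r + c = 0 := by
  obtain ⟨r, hr⟩ := IsAlgClosed.exists_root (Polynomial.C a * Polynomial.X ^ 2 + Polynomial.C b * Polynomial.X + Polynomial.C c)
    (by rw [Polynomial.degree_quadratic ha]; norm_num)
  exact ⟨r, by simpa [Polynomial.IsRoot] using hr⟩

variable {E : Divisor k K} (hd : E.deg ≤ 6) (hp : ∀ A : Divisor k K, A.deg ≤ 3 → ell A ≤ 1)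

include hK hd hp in
/-- A series of degree at most six cannot factor through a conic unless there is a small pencil. -/
theorem no_square {u v w : K} (hu : u ∈ L E) (hv : v ∈ L E) (hw : w ∈ L E)
    (hind : ∀ a b : k, α a * u + α b * w = 0 → a = 0 ∧ b = 0) (he : w ^ 2 = u * v) : False := by
  classical
  have hu0 : u ≠ 0 := fun h => one_ne_zero (hind 1 0 (by rw [h]; simp)).1
  have hw0 : w ≠ 0 := fun h => one_ne_zero (hind 0 1 (by rw [h]; simp)).2
  have hv0 : v ≠ 0 := fun h => hw0 (pow_eq_zero_iff two_ne_zero |>.1 (by rw [he, h, mul_zero]))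
  let E' := E + FunFld.div k u
  have hE' : ∀ P, 0 ≤ E' P := fun P => by
    have := (mem_L_iff hu0).1 hu P
    rw [Finsupp.add_apply, div_apply hK.1]
    omega
  let A : Divisor k K := E'.mapRange (fun n => n / 2) (by norm_num)
  have hA : ∀ P, A P = E' P / 2 := fun P => Finsupp.mapRange_apply
  have hdeg : A.deg ≤ 3 := by
    have h : (2 • A).deg ≤ E'.deg := deg_mono fun P => by
      simp only [Finsupp.smul_apply, hA, smul_eq_mul, nsmul_eq_mul]
      omega
    rw [deg_nsmul, deg_add, deg_div hK.1, add_zero] at h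
    push_cast at h
    omega
  have ht : w / u ∈ L A := (mem_L_iff (div_ne_zero hw0 hu0)).2 fun P => by
    have h1 := (mem_L_iff hv0).1 hv P
    have h2 : P.ord (w ^ 2) = P.ord (u * v) := by rw [he]
    rw [sq, ord_mul P hw0 hw0, ord_mul P hu0 hv0] at h2
    rw [hA, div_eq_mul_inv, ord_mul P hw0 (inv_ne_zero hu0), ord_inv, Finsupp.add_apply, div_apply hK.1]
    omega
  have h1 : (1 : K) ∈ L A := (mem_L_iff one_ne_zero).2 fun P => by
    have := hE' P
    rw [hA, show P.ord (1 : K) = 0 by simp [Place.ord]]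
    omega
  haveI := Groth.Agent.S10976.result k K hK A
  have hli : LinearIndependent k ![(⟨1, h1⟩ : L A), ⟨w / u, ht⟩] := by
    rw [LinearIndependent.pair_iff]
    intro a b hab
    have h := congrArg Subtype.val hab
    simp only [Submodule.coe_add, Submodule.coe_smul, ZeroMemClass.coe_zero, Algebra.smul_def, mul_one] at h
    refine hind a b ?_
    have : (α a + α b * (w / u)) * u = 0 := by rw [h, zero_mul]
    rwa [add_mul, mul_assoc, div_mul_cancel₀ _ hu0] at this
  have h2 := hli.fintype_card_le_finrank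
  rw [Fintype.card_fin] at h2
  have := hp A hdeg
  rw [← ell] at h2
  omega

variable [NeZero (2 : k)]

include hK hd hp in
/-- No quadratic relation with a square term. -/
theorem no_relation_diag {x y z : K} (hx : x ∈ L E) (hy : y ∈ L E) (hz : z ∈ L E)
    (hind : ∀ a b c : k, α a * x + α b * y + α c * z = 0 → a = 0 ∧ b = 0 ∧ c = 0)
    {A B C' p q : k} (hrel : z ^ 2 + α p * (x * z) + α q * (y * z) + α A * x ^ 2 + α B * (x * y) + α C' * y ^ 2 = 0) :
    False := by
  have h2 : (2 : k) ≠ 0 := NeZero.ne 2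
  let w := α (p / 2) * x + α (q / 2) * y + z
  have hw : w ∈ L E := add_mem (smul_add_mem _ _ hx hy) hz
  have hp2 : α p = 2 * α (p / 2) := by rw [← map_ofNat α 2, ← map_mul, mul_div_cancel₀ _ h2]
  have hq2 : α q = 2 * α (q / 2) := by rw [← map_ofNat α 2, ← map_mul, mul_div_cancel₀ _ h2]
  set A' := (p / 2) ^ 2 - A with hA'
  set B' := 2 * (p / 2) * (q / 2) - B with hB'
  set C₁ := (q / 2) ^ 2 - C' with hC₁
  have hw2 : w ^ 2 = α A' * x ^ 2 + α B' * (x * y) + α C₁ * y ^ 2 := by
    simp only [hA', hB', hC₁, map_sub, map_mul, map_pow, map_ofNat, w]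
    linear_combination hrel - (x * z) * hp2 - (y * z) * hq2
  by_cases hA0 : A' = 0
  · refine no_square hK hd hp hy (smul_add_mem B' C₁ hx hy) hw (fun a b h => ?_) (by rw [hw2, hA0, map_zero]; ring)
    obtain ⟨-, h1, h3⟩ := hind (b * (p / 2)) (a + b * (q / 2)) b (by
      simp only [map_mul, map_add]; linear_combination h)
    exact ⟨by rw [h3] at h1; simpa using h1, h3⟩
  · obtain ⟨r, hr⟩ := exists_root_quadratic hA0 B' C₁
    let r₂ := -B' / A' - r
    have hB : α B' = -(α A' * α r) - α A' * α r₂ := by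
      rw [← map_mul, ← map_mul, ← map_neg, ← map_sub]
      congr 1
      simp only [r₂]
      field_simp
      ring
    have hC : α C₁ = α A' * α r * α r₂ := by
      rw [← map_mul, ← map_mul]
      congr 1
      simp only [r₂]
      field_simp
      linear_combination hr
    refine no_square hK hd hp (smul_add_mem A' (-(A' * r)) hx hy) (smul_add_mem 1 (-r₂) hx hy) hw (fun a b h => ?_) (by
      rw [hw2, hB, hC, map_neg, map_neg, map_mul, map_one]; ring)
    obtain ⟨h1, -, h3⟩ := hind (a * A' + b * (p / 2)) (a * -(A' * r) + b * (q / 2)) b (by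
      simp only [map_mul, map_add, map_neg] at h ⊢; linear_combination h)
    refine ⟨?_, h3⟩
    rw [h3, zero_mul, add_zero] at h1
    exact (mul_eq_zero.1 h1).resolve_right hA0

include hK hd hp in
/-- Three independent functions satisfy no quadratic relation. -/
theorem no_relation {x y z : K} (hx : x ∈ L E) (hy : y ∈ L E) (hz : z ∈ L E)
    (hind : ∀ a b c : k, α a * x + α b * y + α c * z = 0 → a = 0 ∧ b = 0 ∧ c = 0)
    {c₀ c₁ c₂ c₃ c₄ c₅ : k} (hrel : α c₀ * x ^ 2 + α c₁ * y ^ 2 + α c₂ * z ^ 2 + α c₃ * (x * y) + α c₄ * (x * z) + α c₅ * (y * z) = 0) :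
    c₀ = 0 ∧ c₁ = 0 ∧ c₂ = 0 ∧ c₃ = 0 ∧ c₄ = 0 ∧ c₅ = 0 := by
  have hz0 : c₂ = 0 := by
    by_contra h
    refine no_relation_diag hK hd hp hx hy hz hind (A := c₀ / c₂) (B := c₃ / c₂) (C' := c₁ / c₂) (p := c₄ / c₂)
      (q := c₅ / c₂) ?_
    have h' : α c₂ ≠ 0 := (map_ne_zero α).2 h
    simp only [map_div₀]
    field_simp
    linear_combination hrel
  have hy0 : c₁ = 0 := by
    by_contra h
    refine no_relation_diag hK hd hp hx hz hy (fun a b c h' => by
        obtain ⟨e1, e2, e3⟩ := hind a c b (by linear_combination h'); exact ⟨e1, e3, e2⟩)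
      (A := c₀ / c₁) (B := c₄ / c₁) (C' := c₂ / c₁) (p := c₃ / c₁) (q := c₅ / c₁) ?_
    have h' : α c₁ ≠ 0 := (map_ne_zero α).2 h
    simp only [map_div₀]
    field_simp
    linear_combination hrel
  have hx0 : c₀ = 0 := by
    by_contra h
    refine no_relation_diag hK hd hp hz hy hx (fun a b c h' => by
        obtain ⟨e1, e2, e3⟩ := hind c b a (by linear_combination h'); exact ⟨e3, e2, e1⟩)
      (A := c₂ / c₀) (B := c₅ / c₀) (C' := c₁ / c₀) (p := c₄ / c₀) (q := c₃ / c₀) ?_
    have h' : α c₀ ≠ 0 := (map_ne_zero α).2 h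
    simp only [map_div₀]
    field_simp
    linear_combination hrel
  subst hz0 hy0 hx0
  simp only [map_zero, zero_mul, zero_add] at hrel
  have hzne : z ≠ 0 := fun h => one_ne_zero (hind 0 0 1 (by rw [h]; simp)).2.2
  have h3 : c₃ = 0 := by
    by_contra h
    have h' : α c₃ ≠ 0 := (map_ne_zero α).2 h
    obtain ⟨s, hs⟩ := IsAlgClosed.exists_pow_nat_eq (c₅ / c₃ * (c₄ / c₃)) (two_pos : 0 < 2)
    have he : (α (1 : k) * x + α (c₅ / c₃) * z) * (α (1 : k) * y + α (c₄ / c₃) * z) = (α s * z) ^ 2 := by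
      rw [mul_pow, ← map_pow, hs, map_mul, map_div₀, map_div₀, map_one]
      field_simp
      linear_combination (α c₃) * hrel
    by_cases hs0 : s = 0
    · rw [hs0, map_zero, zero_mul, zero_pow two_ne_zero, mul_eq_zero] at he
      rcases he with he | he
      · exact one_ne_zero (hind 1 0 (c₅ / c₃) (by simpa using he)).1
      · exact one_ne_zero (hind 0 1 (c₄ / c₃) (by simpa using he)).2.1
    refine no_square hK hd hp (smul_add_mem _ _ hx hz) (smul_add_mem _ _ hy hz)
      (by rw [← Algebra.smul_def]; exact Submodule.smul_mem _ _ hz) (fun a b h'' => ?_) he.symm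
    obtain ⟨e1, -, e3⟩ := hind a 0 (a * (c₅ / c₃) + b * s) (by
      simp only [map_mul, map_add, map_zero, zero_mul, map_one, one_mul] at h'' ⊢; linear_combination h'')
    subst e1
    exact ⟨rfl, by simpa [hs0] using e3⟩
  subst h3
  simp only [map_zero, zero_mul, zero_add] at hrel
  obtain ⟨h4, h5, -⟩ := hind c₄ c₅ 0 (by
    rw [map_zero, zero_mul, add_zero]
    exact (mul_eq_zero.1 (show (α c₄ * x + α c₅ * y) * z = 0 by linear_combination hrel)).resolve_right hzne)
  exact ⟨rfl, rfl, rfl, rfl, h4, h5⟩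

theorem mul_mem_two {x y : K} (hx : x ∈ L E) (hy : y ∈ L E) : x * y ∈ L (2 • E) := by
  rw [two_nsmul]
  exact CurveH0Lib.mul_mem_L hx hy

include hK hd hp in
/-- Quadrics on a series of rank three. -/
theorem six_le_ell (h3 : 3 ≤ ell E) : 6 ≤ ell (2 • E) := by
  haveI := Groth.Agent.S10976.result k K hK E
  haveI := Groth.Agent.S10976.result k K hK (2 • E)
  let b := Module.finBasis k (L E)
  let e : Fin 3 → Fin (Module.finrank k (L E)) := Fin.castLE h3
  let x := b (e 0)
  let y := b (e 1)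
  let z := b (e 2)
  have hind : ∀ a b' c : k, α a * x.1 + α b' * y.1 + α c * z.1 = 0 → a = 0 ∧ b' = 0 ∧ c = 0 := by
    intro a b' c h
    have hl := b.linearIndependent.comp e (Fin.castLE_injective h3)
    have h0 := Fintype.linearIndependent_iff.1 hl ![a, b', c] (Subtype.ext (by
      simpa [Fin.sum_univ_three, Algebra.smul_def, x, y, z] using h))
    exact ⟨h0 0, h0 1, h0 2⟩
  let g : Fin 6 → L (2 • E) := ![⟨_, mul_mem_two x.2 x.2⟩, ⟨_, mul_mem_two y.2 y.2⟩, ⟨_, mul_mem_two z.2 z.2⟩,
    ⟨_, mul_mem_two x.2 y.2⟩, ⟨_, mul_mem_two x.2 z.2⟩, ⟨_, mul_mem_two y.2 z.2⟩]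
  have hg : LinearIndependent k g := by
    rw [Fintype.linearIndependent_iff]
    intro c hc i
    have h := congrArg Subtype.val hc
    simp [g, Fin.sum_univ_six, Algebra.smul_def] at h
    obtain ⟨a0, a1, a2, a3, a4, a5⟩ := no_relation hK hd hp x.2 y.2 z.2 hind (c₀ := c 0) (c₁ := c 1) (c₂ := c 2)
      (c₃ := c 3) (c₄ := c 4) (c₅ := c 5) (by linear_combination h)
    fin_cases i <;> assumption
  have := hg.fintype_card_le_finrank
  rw [Fintype.card_fin] at this
  exact this

end CurveH0Lib.Nine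

end
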