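import Groth.Agent.CurveH0Lib.NineApps
import Groth.Agent.FFLib.Embedding
import Groth.Agent.S11059

/-!
# Clifford index three in genus nine
-/

set_option autoImplicit false
set_option linter.unusedSectionVars false
universe u v

open FunFld
open Groth.Agent.FFLib hiding degHom

noncomputable section

namespace CurveH0Lib.Nine

variable {k : Type u} {K : Type v} [Field k] [IsAlgClosed k] [Field K] [Algebra k K]
  (hK : FunFld.IsFunctionField k K) {C : Divisor k K} (hC : IsCanonical k K C) (hg : genus k K = 9)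

theorem inLocRing_div {ι : Type*} {φ : ι → K} {P : Place k K} {c z : K} (hc : c ≠ 0) (h : InLocRing φ P z) :
    InLocRing (fun i => φ i / c) P z := by
  obtain ⟨j, hj, hle, hu⟩ := h
  refine ⟨j, div_ne_zero hj hc, fun i => ?_, ?_⟩
  · rw [map_div₀, map_div₀]
    exact div_le_div_of_nonneg_right (hle i) zero_le
  · simpa only [div_div_div_cancel_right₀ hc] using hu

theorem adjoin_eq_top_of_nonsingular {x y : K} (P : Place k K) (h : IsNonsingularAt ![(1 : K), x, y] P) :
    IntermediateField.adjoin k ({x, y} : Set K) = ⊤ := by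
  rw [eq_top_iff]
  intro z _
  set F := IntermediateField.adjoin k ({x, y} : Set K)
  have key : ∀ z : K, P.1 z ≤ 1 → z ∈ F := by
    intro z hz
    obtain ⟨j, hj, -, u, hu, w, hw, hw1, he⟩ := h z hz
    have hw0 : w ≠ 0 := fun e => by rw [e, map_zero] at hw1; exact zero_ne_one hw1
    have hmem : ∀ i : Fin 3, ![(1 : K), x, y] i ∈ F := fun i => by
      fin_cases i
      · exact one_mem F
      · exact IntermediateField.subset_adjoin _ _ (Set.mem_insert x _)
      · exact IntermediateField.subset_adjoin _ _ (Set.mem_insert_of_mem _ rfl)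
    have hle : Algebra.adjoin k (Set.range fun i => ![(1 : K), x, y] i / ![(1 : K), x, y] j) ≤ F.toSubalgebra :=
      Algebra.adjoin_le (by rintro _ ⟨i, rfl⟩; exact F.div_mem (hmem i) (hmem j))
    rw [show z = u / w from (eq_div_iff hw0).2 he]
    exact div_mem (hle hu) (hle hw)
  rcases le_total (P.1 z) 1 with hz | hz
  · exact key z hz
  · have hz' : P.1 z⁻¹ ≤ 1 := by
      rw [map_inv₀]; exact inv_le_one_of_one_le₀ hz
    simpa using inv_mem (key _ hz')

include hK in
/-- The genus of a smooth plane model. -/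
theorem two_genus_of_separates {E : Divisor k K} (h : ell E = 3)
    (hsep : ∀ P Q : Place k K, ell (E - Finsupp.single P 1 - Finsupp.single Q 1) + 2 ≤ ell E) :
    2 * (genus k K : ℤ) = (E.deg - 1) * (E.deg - 2) := by
  classical
  have hd1 : ∀ P : Place k K, Divisor.deg (Finsupp.single P (1 : ℤ)) = 1 := fun P => by
    rw [deg_single, deg_eq_one hK]; norm_num
  haveI := Groth.Agent.S10976.result k K hK E
  let b : Module.Basis (Fin 3) k (L E) := Module.finBasisOfFinrankEq k (L E) h
  let φ : Fin 3 → K := fun i => (b i).1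
  have hφ0 : ∀ i, φ i ≠ 0 := fun i hi => b.ne_zero i (Subtype.ext hi)
  have hspan : Submodule.span k (Set.range φ) = L E := by
    rw [show Set.range φ = (L E).subtype '' Set.range b from by rw [← Set.range_comp]; rfl,
      Submodule.span_image, b.span_eq, Submodule.map_top, Submodule.range_subtype]
  set x := φ 1 / φ 0 with hx
  set y := φ 2 / φ 0 with hy
  have hns : ∀ P : Place k K, IsNonsingularAt ![(1 : K), x, y] P := fun P z hz => by
    have h' := inLocRing_div (hφ0 0) (isNonsingularAt_of_separates hK E φ hspan P (hsep P) z hz)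
    have he : (fun i => φ i / φ 0) = ![(1 : K), x, y] := by
      funext i
      fin_cases i
      · exact div_self (hφ0 0)
      · rfl
      · rfl
    rwa [he] at h'
  obtain ⟨P₀, -, -⟩ :=
    (Groth.Agent.S11004.result k K hK (Groth.Agent.S11000.result k K hK)).exists_notMem_finset (∅ : Finset (Place k K))
  have hgen := (Groth.Agent.S11059.result k K hK x y (adjoin_eq_top_of_nonsingular P₀ (hns P₀))).2 hns
  have hmap : mapDiv k ![(1 : K), x, y] = E + FunFld.div k (φ 0) := by
    ext Q
    rw [mapDiv_plane hK x y Q, Finsupp.add_apply, div_apply hK.1]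
    have ho : ∀ i, -E Q ≤ Q.ord (φ i) := fun i => by
      have := (mem_L_iff (hφ0 i)).1 (b i).2 Q
      omega
    obtain ⟨i, hi⟩ : ∃ i, Q.ord (φ i) = -E Q := by
      by_contra hne
      push Not at hne
      have hle : L E ≤ L (E - Finsupp.single Q 1) := by
        rw [← hspan, Submodule.span_le]
        rintro _ ⟨i, rfl⟩
        refine (mem_L_iff (hφ0 i)).2 fun R => ?_
        have := (mem_L_iff (hφ0 i)).1 (b i).2 R
        rw [Finsupp.sub_apply, Finsupp.single_apply]
        split_ifs with hQR
        · subst hQR; have := hne i; have := ho i; omega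
        · rw [sub_zero]; exact this
      haveI := Groth.Agent.S10976.result k K hK (E - Finsupp.single Q 1)
      have h2 : ell E ≤ ell (E - Finsupp.single Q 1) := Submodule.finrank_mono hle
      have h3 := ell_sub_le hK.1 (E - Finsupp.single Q 1 - Finsupp.single Q 1) (E - Finsupp.single Q 1)
        (sub_le_self _ (Finsupp.single_nonneg.2 zero_le_one))
      have h4 := hsep Q Q
      rw [deg_sub (E - Finsupp.single Q 1) (Finsupp.single Q 1), hd1] at h3
      omega
    rw [hx, hy, div_eq_mul_inv, div_eq_mul_inv, ord_mul Q (hφ0 1) (inv_ne_zero (hφ0 0)),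
      ord_mul Q (hφ0 2) (inv_ne_zero (hφ0 0)), ord_inv]
    have := ho 0
    have := ho 1
    have := ho 2
    fin_cases i <;> simp only [Fin.zero_eta, Fin.mk_one, Fin.reduceFinMk] at hi <;> omega
  rwa [hmap, deg_add, deg_div hK.1, add_zero] at hgen

include hK hC hg in
/-- Clifford index three in genus nine means pentagonal. -/
theorem exists_g15 (hmin : ∀ D : Divisor k K, 2 ≤ ell D → 2 ≤ ell (C - D) → 2 * (ell D : ℤ) + 1 ≤ D.deg)
    {D₀ : Divisor k K} (h0 : 2 ≤ ell D₀) (h1 : 2 ≤ ell (C - D₀)) (he : D₀.deg = 2 * (ell D₀ : ℤ) + 1) :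
    ∃ N : Divisor k K, N.deg = 5 ∧ 2 ≤ ell N := by
  classical
  have hdC := (canonical_ell_deg hK hC).2
  rw [hg] at hdC
  obtain ⟨E, hl, hd, hs⟩ : ∃ D : Divisor k K, ell D ≤ 3 ∧ D.deg = 2 * (ell D : ℤ) + 1 ∧ 2 ≤ ell D := by
    rcases le_or_gt (ell D₀) 3 with h | h
    · exact ⟨D₀, h, he, h0⟩
    · have hr := rr hK hC hg D₀
      refine ⟨C - D₀, by omega, ?_, h1⟩
      rw [deg_sub, hdC]
      omega
  rcases (show ell E = 2 ∨ ell E = 3 by omega) with h | h
  · exact ⟨E, by omega, by omega⟩
  by_contra hno
  push Not at hno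
  have hd1 : ∀ P : Place k K, Divisor.deg (Finsupp.single P (1 : ℤ)) = 1 := fun P => by
    rw [deg_single, deg_eq_one hK]; norm_num
  have hsep : ∀ P Q : Place k K, ell (E - Finsupp.single P 1 - Finsupp.single Q 1) + 2 ≤ ell E := fun P Q => by
    have := hno (E - Finsupp.single P 1 - Finsupp.single Q 1) (by rw [deg_sub, deg_sub, hd1, hd1]; omega)
    omega
  have hgen := two_genus_of_separates hK h hsep
  rw [hd, h, hg] at hgen
  norm_num at hgen

end CurveH0Lib.Nine

end
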