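import Groth.Agent.CurveH0Lib.NineApps
import Mathlib.LinearAlgebra.QuadraticForm.Basic

/-!
# Clifford index two in genus nine
-/

set_option autoImplicit false
set_option linter.unusedSectionVars false
universe u v

open FunFld
open Groth.Agent.FFLib hiding degHom

noncomputable section

namespace CurveH0Lib.Nine

variable {k : Type u} {K : Type v} [Field k] [IsAlgClosed k] [Field K] [Algebra k K]
  (hK : FunFld.IsFunctionField k K)

local notation "α" => algebraMap k K

include hK in
/-- A factored quadratic relation gives two pencils whose degrees add up to at most the degree. -/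
theorem pencils_of_relation {E : Divisor k K} {u v s t : K} (hu : u ∈ L E) (hv : v ∈ L E) (hs : s ∈ L E)
    (ht : t ∈ L E) (hu0 : u ≠ 0) (hv0 : v ≠ 0) (hs0 : s ≠ 0) (ht0 : t ≠ 0)
    (hus : ∀ a b : k, α a * u + α b * s = 0 → a = 0 ∧ b = 0)
    (hut : ∀ a b : k, α a * u + α b * t = 0 → a = 0 ∧ b = 0) (he : u * v = s * t) :
    ∃ A B : Divisor k K, A.deg + B.deg ≤ E.deg ∧ 2 ≤ ell A ∧ 2 ≤ ell B := by
  classical
  let Du := E + FunFld.div k u
  let Ds := E + FunFld.div k s
  let Dt := E + FunFld.div k t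
  let M₁ : Divisor k K := Finsupp.zipWith min (min_self 0) Du Ds
  let M₂ : Divisor k K := Finsupp.zipWith min (min_self 0) Du Dt
  have hM₁ : ∀ P, M₁ P = min (Du P) (Ds P) := fun P => Finsupp.zipWith_apply
  have hM₂ : ∀ P, M₂ P = min (Du P) (Dt P) := fun P => Finsupp.zipWith_apply
  have key : ∀ {w : K}, w ≠ 0 → (∀ a b : k, α a * u + α b * w = 0 → a = 0 ∧ b = 0) → ∀ M : Divisor k K,
      (∀ P, M P = min ((E + FunFld.div k u) P) ((E + FunFld.div k w) P)) →
      2 ≤ ell (E + FunFld.div k w - M) := by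
    intro w hw0 hind M hM
    have h1 : (1 : K) ∈ L (E + FunFld.div k w - M) := (mem_L_iff one_ne_zero).2 fun P => by
      rw [Finsupp.sub_apply, hM, show P.ord (1 : K) = 0 by simp [Place.ord]]
      omega
    have hr : u / w ∈ L (E + FunFld.div k w - M) := (mem_L_iff (div_ne_zero hu0 hw0)).2 fun P => by
      rw [Finsupp.sub_apply, hM, div_eq_mul_inv, ord_mul P hu0 (inv_ne_zero hw0), ord_inv, Finsupp.add_apply,
        Finsupp.add_apply, div_apply hK.1, div_apply hK.1]
      omega
    haveI := Groth.Agent.S10976.result k K hK (E + FunFld.div k w - M)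
    have hli : LinearIndependent k ![(⟨1, h1⟩ : L (E + FunFld.div k w - M)), ⟨u / w, hr⟩] := by
      rw [LinearIndependent.pair_iff]
      intro a b hab
      have h := congrArg Subtype.val hab
      simp only [Submodule.coe_add, Submodule.coe_smul, ZeroMemClass.coe_zero, Algebra.smul_def, mul_one] at h
      have h' : (α a + α b * (u / w)) * w = 0 := by rw [h, zero_mul]
      rw [add_mul, mul_assoc, div_mul_cancel₀ _ hw0, add_comm] at h'
      exact (hind b a h').symm
    have h2 := hli.fintype_card_le_finrank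
    rwa [Fintype.card_fin] at h2
  refine ⟨Ds - M₁, Dt - M₂, ?_, key hs0 hus M₁ hM₁, key ht0 hut M₂ hM₂⟩
  have hle : Du.deg ≤ (M₁ + M₂).deg := deg_mono fun P => by
    have hu' := (mem_L_iff hu0).1 hu P
    have hv' := (mem_L_iff hv0).1 hv P
    have hs' := (mem_L_iff hs0).1 hs P
    have ht' := (mem_L_iff ht0).1 ht P
    have h2 : P.ord (u * v) = P.ord (s * t) := by rw [he]
    rw [ord_mul P hu0 hv0, ord_mul P hs0 ht0] at h2
    have e1 := hM₁ P
    have e2 := hM₂ P
    simp only [Du, Ds, Dt, Finsupp.add_apply, div_apply hK.1] at e1 e2 ⊢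
    omega
  simp only [deg_sub, deg_add, Du, Ds, Dt, deg_div hK.1, add_zero] at hle ⊢
  omega

variable [NeZero (2 : k)]

/-- Four independent functions with dependent products satisfy a factored relation. -/
theorem exists_factored_relation {x : Fin 4 → K} (hind : ∀ c : Fin 4 → k, (∑ i, α (c i) * x i) = 0 → c = 0)
    {c : {p : Fin 4 × Fin 4 // p.1 ≤ p.2} → k} (hc : c ≠ 0)
    (hrel : ∑ p, α (c p) * (x p.1.1 * x p.1.2) = 0) :
    ∃ a b d e : Fin 4 → k,
      (∀ r q : k, r • a + q • d = 0 → r = 0 ∧ q = 0) ∧ (∀ r q : k, r • a + q • e = 0 → r = 0 ∧ q = 0) ∧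
      b ≠ 0 ∧ d ≠ 0 ∧ e ≠ 0 ∧
      (∑ i, α (a i) * x i) * (∑ i, α (b i) * x i) = (∑ i, α (d i) * x i) * (∑ i, α (e i) * x i) := by
  classical
  have h2 : (2 : k) ≠ 0 := NeZero.ne 2
  haveI : Invertible (2 : k) := invertibleOfNonzero h2
  let c' : Fin 4 → Fin 4 → k := fun i j => if h : i ≤ j then c ⟨(i, j), h⟩ else 0
  let S : Fin 4 → Fin 4 → k := fun i j => c' i j + c' j i
  let B : LinearMap.BilinForm k (Fin 4 → k) :=
    LinearMap.mk₂ k (fun z w => ∑ i, ∑ j, S i j * z i * w j)
      (fun z z' w => by simp only [Pi.add_apply, mul_add, add_mul, Finset.sum_add_distrib])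
      (fun r z w => by
        simp only [Pi.smul_apply, smul_eq_mul, Finset.mul_sum]
        exact Finset.sum_congr rfl fun i _ => Finset.sum_congr rfl fun j _ => by ring)
      (fun z w w' => by simp only [Pi.add_apply, mul_add, Finset.sum_add_distrib])
      (fun r z w => by
        simp only [Pi.smul_apply, smul_eq_mul, Finset.mul_sum]
        exact Finset.sum_congr rfl fun i _ => Finset.sum_congr rfl fun j _ => by ring)
  have hB : B.IsSymm := ⟨fun z w => by
    show (∑ i, ∑ j, S i j * z i * w j) = ∑ i, ∑ j, S i j * w i * z j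
    rw [Finset.sum_comm]
    exact Finset.sum_congr rfl fun i _ => Finset.sum_congr rfl fun j _ => by simp only [S]; ring⟩
  have hS : ∀ i j, B (Pi.single i 1) (Pi.single j 1) = S i j := fun i j => by
    show (∑ i', ∑ j', S i' j' * (Pi.single i 1 : Fin 4 → k) i' * (Pi.single j 1 : Fin 4 → k) j') = _
    simp [Pi.single_apply]
  obtain ⟨v₀, hv₀⟩ := LinearMap.BilinForm.exists_orthogonal_basis (LinearMap.BilinForm.isSymm_iff.1 hB)
  let v := v₀.reindex (finCongr (Module.finrank_fin_fun k))
  have hv : ∀ l m, l ≠ m → B (v l) (v m) = 0 := fun l m h => by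
    simp only [v, Module.Basis.reindex_apply]
    exact hv₀ (fun h' => h ((finCongr (Module.finrank_fin_fun k)).symm.injective h'))
  let P : Fin 4 → Fin 4 → k := fun l i => v.repr (Pi.single i 1) l
  let a₀ : Fin 4 → k := fun l => B (v l) (v l)
  have hexp : ∀ i j, S i j = ∑ l, a₀ l * P l i * P l j := fun i j => by
    rw [← hS]
    conv_lhs => rw [← v.sum_repr (Pi.single i 1), ← v.sum_repr (Pi.single j 1)]
    simp only [map_sum, map_smul, LinearMap.sum_apply, LinearMap.smul_apply, smul_eq_mul]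
    refine Finset.sum_congr rfl fun l _ => ?_
    rw [Finset.sum_eq_single l (fun m _ hm => by simp [hv m l hm]) (fun h => absurd (Finset.mem_univ _) h)]
    show _ = B (v l) (v l) * P l i * P l j
    simp only [P]
    ring
  have hrow : ∀ r : Fin 4 → k, (∀ i, ∑ l, r l * P l i = 0) → r = 0 := by
    intro r hr
    funext m
    have h : (∑ i, (v m) i • v.repr (Pi.single i 1 : Fin 4 → k)) = Finsupp.single m 1 := by
      have h0 : v m = ∑ i, (v m) i • (Pi.single i 1 : Fin 4 → k) := pi_eq_sum_univ' (v m)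
      rw [← v.repr_self m]
      conv_rhs => rw [h0, map_sum]
      simp only [map_smul]
    calc r m = ∑ l, r l * (Finsupp.single m (1 : k)) l := by simp [Finsupp.single_apply]
      _ = ∑ i, (v m) i * ∑ l, r l * P l i := by
        rw [← h]
        simp only [Finsupp.coe_finset_sum, Finset.sum_apply, Finsupp.smul_apply, smul_eq_mul, Finset.mul_sum]
        rw [Finset.sum_comm]
        exact Finset.sum_congr rfl fun i _ => Finset.sum_congr rfl fun l _ => by simp only [P]; ring
      _ = 0 := by simp [hr]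
  let y : Fin 4 → K := fun l => ∑ i, α (P l i) * x i
  have hy : ∀ r : Fin 4 → k, (∑ l, α (r l) * y l) = 0 → r = 0 := by
    intro r hr
    refine hrow r fun i => congrFun (hind (fun i => ∑ l, r l * P l i) ?_) i
    refine Eq.trans ?_ hr
    simp only [y, map_sum, map_mul, Finset.sum_mul, Finset.mul_sum]
    rw [Finset.sum_comm]
    exact Finset.sum_congr rfl fun l _ => Finset.sum_congr rfl fun i _ => by ring
  have hsq : (∑ l, α (a₀ l) * y l ^ 2) = 0 := by
    have hS0 : (∑ i, ∑ j, α (S i j) * (x i * x j)) = 0 := by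
      have h1 : ∀ (g : Fin 4 → Fin 4 → K), (∑ i, ∑ j, α (c' i j) * g i j) = ∑ p, α (c p) * g p.1.1 p.1.2 := by
        intro g
        rw [← Fintype.sum_prod_type', ← Finset.sum_subtype (Finset.univ.filter fun p : Fin 4 × Fin 4 => p.1 ≤ p.2)
          (fun p => by simp) (fun p => α (c' p.1 p.2) * g p.1 p.2) |>.trans
            (Finset.sum_congr rfl fun p _ => by simp only [c', dif_pos p.2])]
        refine (Finset.sum_filter_of_ne fun p _ hp => ?_).symm
        by_contra hle
        simp only [c', dif_neg hle, map_zero, zero_mul, ne_eq, not_true] at hp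
      simp only [S, map_add, add_mul, Finset.sum_add_distrib]
      rw [h1 fun i j => x i * x j, hrel, zero_add, Finset.sum_comm, h1 fun i j => x j * x i]
      rw [← hrel]
      exact Finset.sum_congr rfl fun p _ => by ring
    rw [← hS0]
    simp only [hexp, map_sum, map_mul, Finset.sum_mul, y, sq, Finset.mul_sum]
    rw [Finset.sum_comm]
    refine Finset.sum_congr rfl fun i _ => ?_
    rw [Finset.sum_comm]
    exact Finset.sum_congr rfl fun j _ => Finset.sum_congr rfl fun l _ => by ring
  obtain ⟨i0, hi0⟩ : ∃ l, a₀ l ≠ 0 := by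
    by_contra h
    push Not at h
    refine hc (funext fun p => ?_)
    have h' := hexp p.1.1 p.1.2
    rw [Finset.sum_eq_zero (fun l _ => by rw [h l, zero_mul, zero_mul])] at h'
    simp only [S, c', dif_pos p.2] at h'
    by_cases hpp : p.1.2 ≤ p.1.1
    · have he : p.1.1 = p.1.2 := le_antisymm p.2 hpp
      rw [dif_pos hpp] at h'
      have : (⟨(p.1.2, p.1.1), hpp⟩ : {p : Fin 4 × Fin 4 // p.1 ≤ p.2}) = p :=
        Subtype.ext (Prod.ext he.symm he)
      rw [this, ← two_mul] at h'
      exact (mul_eq_zero.1 h').resolve_left h2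
    · rw [dif_neg hpp, add_zero] at h'
      exact h'
  obtain ⟨i2, hne, hi2⟩ : ∃ l, l ≠ i0 ∧ a₀ l ≠ 0 := by
    by_contra h
    push Not at h
    rw [Finset.sum_eq_single i0 (fun l _ hl => by rw [h l hl, map_zero, zero_mul]) (fun h => absurd (Finset.mem_univ _) h),
      mul_eq_zero, pow_eq_zero_iff two_ne_zero] at hsq
    rcases hsq with h' | h'
    · exact hi0 ((map_eq_zero α).1 h')
    · have := congrFun (hy (Pi.single i0 1) (by
        rw [Finset.sum_eq_single i0 (fun l _ hl => by rw [Pi.single_eq_of_ne hl, map_zero, zero_mul])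
          (fun h => absurd (Finset.mem_univ _) h), Pi.single_eq_same, map_one, one_mul, h'])) i0
      simp at this
  obtain ⟨σ, hσ0, hσ2⟩ : ∃ σ : Equiv.Perm (Fin 4), σ 0 = i0 ∧ σ 2 = i2 := by
    revert hne
    clear hi0 hi2
    revert i0 i2
    decide
  let p : Fin 4 → k := fun l => (IsAlgClosed.exists_pow_nat_eq (a₀ (σ l)) (two_pos : 0 < 2)).choose
  have hp : ∀ l, p l ^ 2 = a₀ (σ l) := fun l => (IsAlgClosed.exists_pow_nat_eq (a₀ (σ l)) (two_pos : 0 < 2)).choose_spec
  obtain ⟨j, hj⟩ := IsAlgClosed.exists_pow_nat_eq (-1 : k) (two_pos : 0 < 2)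
  have hp0 : p 0 ≠ 0 := fun h => hi0 (by rw [← hσ0, ← hp, h]; simp)
  have hp2 : p 2 ≠ 0 := fun h => hi2 (by rw [← hσ2, ← hp, h]; simp)
  have hj0 : j ≠ 0 := fun h => by rw [h] at hj; simp at hj
  let T : (Fin 4 → k) → Fin 4 → k := fun r i => ∑ l, r (σ.symm l) * P l i
  have hT : ∀ r : Fin 4 → k, (∑ i, α (T r i) * x i) = ∑ l, α (r l) * y (σ l) := fun r => by
    simp only [T, y, map_sum, map_mul, Finset.sum_mul, Finset.mul_sum]
    rw [Finset.sum_comm, ← Equiv.sum_comp σ]
    refine Finset.sum_congr rfl fun l _ => Finset.sum_congr rfl fun i _ => ?_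
    rw [Equiv.symm_apply_apply]; ring
  have hT0 : ∀ r : Fin 4 → k, T r = 0 → r = 0 := fun r h => by
    have := hrow (fun l => r (σ.symm l)) fun i => congrFun h i
    funext l
    simpa using congrFun this (σ l)
  have hTlin : ∀ (r q : k) (z w : Fin 4 → k), r • T z + q • T w = T (r • z + q • w) := fun r q z w => by
    funext i
    simp only [T, Pi.add_apply, Pi.smul_apply, smul_eq_mul, Finset.mul_sum, ← Finset.sum_add_distrib]
    exact Finset.sum_congr rfl fun l _ => by ring
  have hpair : ∀ w : Fin 4 → k, w 0 = 0 → w 2 ≠ 0 → ∀ r q : k,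
      r • T ![p 0, j * p 1, 0, 0] + q • T w = 0 → r = 0 ∧ q = 0 := fun w hw0 hw2 r q h => by
    rw [hTlin] at h
    have h' := hT0 _ h
    have e0 := congrFun h' 0
    have e2 := congrFun h' 2
    simp [hw0] at e0 e2
    refine ⟨e0.resolve_right hp0, ?_⟩
    rcases e0 with e0 | e0
    · exact e2.resolve_right hw2
    · exact absurd e0 hp0
  refine ⟨T ![p 0, j * p 1, 0, 0], T ![p 0, -(j * p 1), 0, 0], T ![0, 0, j * p 2, -p 3], T ![0, 0, j * p 2, p 3],
    hpair _ rfl (mul_ne_zero hj0 hp2), hpair _ rfl (mul_ne_zero hj0 hp2), fun h => hp0 (congrFun (hT0 _ h) 0),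
    fun h => mul_ne_zero hj0 hp2 (congrFun (hT0 _ h) 2), fun h => mul_ne_zero hj0 hp2 (congrFun (hT0 _ h) 2), ?_⟩
  rw [hT, hT, hT, hT]
  have hsq' := hsq
  rw [← Equiv.sum_comp σ] at hsq'
  simp only [Fin.sum_univ_four, ← hp, map_pow] at hsq'
  have hj' : α j ^ 2 = -1 := by rw [← map_pow, hj, map_neg, map_one]
  simp only [Fin.sum_univ_four, Matrix.cons_val_zero, Matrix.cons_val_one, Matrix.cons_val, map_zero, zero_mul, add_zero,
    zero_add, map_mul, map_neg]
  linear_combination hsq' - (α (p 1) ^ 2 * y (σ 1) ^ 2 + α (p 2) ^ 2 * y (σ 2) ^ 2) * hj'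

variable {C : Divisor k K} (hC : IsCanonical k K C) (hg : genus k K = 9)

include hK hC hg in
/-- Clifford index two in genus nine means tetragonal. -/
theorem exists_g14 (hmin : ∀ D : Divisor k K, 2 ≤ ell D → 2 ≤ ell (C - D) → 2 * (ell D : ℤ) + 0 ≤ D.deg)
    {D₀ : Divisor k K} (h0 : 2 ≤ ell D₀) (h1 : 2 ≤ ell (C - D₀)) (he : D₀.deg = 2 * (ell D₀ : ℤ)) :
    ∃ N : Divisor k K, N.deg = 4 ∧ 2 ≤ ell N := by
  classical
  have hp : ∀ A : Divisor k K, A.deg ≤ 3 → ell A ≤ 1 := fun A hA =>
    small_pencil hK hC hg hmin (e := 0) (by omega) (by norm_num)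
  have hdC := (canonical_ell_deg hK hC).2
  rw [hg] at hdC
  obtain ⟨D, hl, hd, hs⟩ : ∃ D : Divisor k K, ell D ≤ 4 ∧ D.deg = 2 * (ell D : ℤ) ∧ 2 ≤ ell D := by
    rcases le_or_gt (ell D₀) 4 with h | h
    · exact ⟨D₀, h, he, h0⟩
    · have hr := rr hK hC hg D₀
      refine ⟨C - D₀, by omega, ?_, h1⟩
      rw [deg_sub, hdC]
      omega
  rcases (show ell D = 2 ∨ ell D = 3 ∨ ell D = 4 by omega) with h | h | h
  · exact ⟨D, by omega, by omega⟩
  · have h6 := six_le_ell hK (E := D) (by omega) hp (by omega)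
    have hr := rr hK hC hg (2 • D)
    have h12 : (2 • D).deg = 12 := by rw [deg_nsmul, hd, h]; norm_num
    exact ⟨C - 2 • D, by rw [deg_sub, hdC, h12]; norm_num, by omega⟩
  · haveI := Groth.Agent.S10976.result k K hK D
    haveI := Groth.Agent.S10976.result k K hK (2 • D)
    have h16 : (2 • D).deg = 16 := by rw [deg_nsmul, hd, h]; norm_num
    have hr := rr hK hC hg (2 • D)
    have hle := hp (C - 2 • D) (by rw [deg_sub, hdC, h16]; norm_num)
    let b : Module.Basis (Fin 4) k (L D) := Module.finBasisOfFinrankEq k (L D) h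
    let g : {p : Fin 4 × Fin 4 // p.1 ≤ p.2} → L (2 • D) := fun p => ⟨_, mul_mem_two (b p.1.1).2 (b p.1.2).2⟩
    have hg' : ¬ LinearIndependent k g := fun hli => by
      have h10 := hli.fintype_card_le_finrank
      rw [show Fintype.card {p : Fin 4 × Fin 4 // p.1 ≤ p.2} = 10 by decide] at h10
      simp only [ell] at hle hr
      omega
    rw [Fintype.not_linearIndependent_iff] at hg'
    obtain ⟨c, hc, q, hq⟩ := hg'
    have hx : ∀ r : Fin 4 → k, (∑ i, α (r i) * (b i).1) = 0 → r = 0 := fun r hr => funext fun i =>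
      Fintype.linearIndependent_iff.1 b.linearIndependent r (Subtype.ext (by
        simpa [Submodule.coe_sum, Algebra.smul_def] using hr)) i
    obtain ⟨a, b', d, e, had, hae, hb, hd', he', hrel⟩ := exists_factored_relation (x := fun i => (b i).1) hx
      (c := c) (fun h => hq (congrFun h q)) (by
        simpa [g, Submodule.coe_sum, Algebra.smul_def] using congrArg Subtype.val hc)
    have hmem : ∀ r : Fin 4 → k, (∑ i, α (r i) * (b i).1) ∈ L D := fun r =>
      sum_mem fun i _ => by rw [← Algebra.smul_def]; exact Submodule.smul_mem _ _ (b i).2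
    have hlin : ∀ (r q : k) (z w : Fin 4 → k), α r * (∑ i, α (z i) * (b i).1) + α q * (∑ i, α (w i) * (b i).1) =
        ∑ i, α ((r • z + q • w) i) * (b i).1 := fun r q z w => by
      simp only [Finset.mul_sum, ← Finset.sum_add_distrib, Pi.add_apply, Pi.smul_apply, smul_eq_mul, map_add, map_mul]
      exact Finset.sum_congr rfl fun i _ => by ring
    have ha : a ≠ 0 := fun h => one_ne_zero (had 1 0 (by rw [h]; simp)).1
    obtain ⟨A, B, hAB, hA, hB⟩ := pencils_of_relation hK (hmem a) (hmem b') (hmem d) (hmem e)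
      (fun h => ha (hx a h)) (fun h => hb (hx b' h)) (fun h => hd' (hx d h)) (fun h => he' (hx e h))
      (fun r q h => had r q (hx _ ((hlin r q a d).symm.trans h)))
      (fun r q h => hae r q (hx _ ((hlin r q a e).symm.trans h))) hrel
    rw [hd, h] at hAB
    by_cases hA4 : A.deg = 4
    · exact ⟨A, hA4, hA⟩
    · refine ⟨B, ?_, hB⟩
      have := hp A
      have := hp B
      omega

end CurveH0Lib.Nine

end
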