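import Groth.Agent.CurveH0Lib.Quintic

/-!
# Linear stability of projections of canonical curves
-/

set_option autoImplicit false
set_option linter.style.haveILetI false
set_option linter.unusedSectionVars false
universe u

open CategoryTheory CategoryTheory.Limits AlgebraicGeometry TopologicalSpace Opposite
open FunFld CurveDualLib
open GenusZeroLib (kmod e0k ρ)

noncomputable section

namespace CurveH0Lib.ProjStable

attribute [local instance] algFF

variable {k : Type u} [Field k] [IsAlgClosed k] {X : Scheme.{u}} [X.Over (Spec (CommRingCat.of k))] [IsIntegral X]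
  [IsProper (X ↘ Spec (CommRingCat.of k))] [Smooth (X ↘ Spec (CommRingCat.of k))]
  (hdim : topologicalKrullDim X = 1)

include hdim in
/-- An invertible subsheaf is everything or has smaller degree. -/
theorem exists_div_sub {C : Divisor k X.functionField} {L M : X.Modules} (hC : ZetaCurveLib.HasDiv (k := k) hdim L C)
    (hM : PicF.IsInvertible M) (ι : M ⟶ L) [Mono ι] :
    ∃ E : Divisor k X.functionField, ZetaCurveLib.HasDiv (k := k) hdim M E ∧ (E = C ∨ E.deg < C.deg) := by
  by_cases h : IsIso ι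
  · exact ⟨C, hC.of_iso hdim (asIso ι).symm hM, Or.inl rfl⟩
  · have h0 := RRVanLib.finrank_h0_structure (k := k) (X := X)
    obtain ⟨E, hE⟩ := ZetaCurveLib.exists_hasDiv (k := k) hdim hM
    have := LinStable.deg_lt_of_mono (k := k) hdim hC.1 hM ι h
    rw [hE.deg hdim h0, hC.deg hdim h0] at this
    exact ⟨E, hE, Or.inr this⟩

omit [IsAlgClosed k] [Smooth (X ↘ Spec (CommRingCat.of k))] in
/-- Independent sections that factor through a submodule. -/
theorem le_h0 {M L : X.Modules} (hM : PicF.IsInvertible M) (ι : M ⟶ L) {m : ℕ} (w : Fin m → LinSer.Sect X L)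
    (hw : LinSer.LinIndep k X L w) (hv : ∀ j, ∃ v : LinSer.Sect X M, (ι.val.app (op ⊤)).hom v = w j) :
    m ≤ Module.finrank k (Coh.HH X M 0) ∧
      ∀ (n : ℕ) (s : Fin n → LinSer.Sect X L),
        (∀ j, ∃ c : Fin n → k, w j = ∑ i, (Coh.toGlobal (X ↘ Spec (CommRingCat.of k)) (c i)) • s i) →
        (∃ v : LinSer.Sect X M, ∀ c : Fin n → k,
          (ι.val.app (op ⊤)).hom v ≠ ∑ i, (Coh.toGlobal (X ↘ Spec (CommRingCat.of k)) (c i)) • s i) →
        m + 1 ≤ Module.finrank k (Coh.HH X M 0) := by
  classical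
  letI := kmod k M
  letI := kmod k L
  haveI := CurvLib.isNoetherian k (X := X)
  haveI := CurvLib.finite_HH (k := k) (CurvLib.isCoh_of_isInvertible hM) 0
  haveI : Module.Finite k Γ(M, ⊤) := Module.Finite.equiv (e0k k M)
  rw [(e0k k M).finrank_eq]
  let f : Γ(M, ⊤) →ₗ[k] Γ(L, ⊤) :=
    { toFun := fun v => ι.app ⊤ v
      map_add' := fun a b => map_add (ι.app ⊤).hom a b
      map_smul' := fun r a => Scheme.Modules.Hom.app_smul ι _ _ }
  choose v hv using hv
  let v' : Fin m → Γ(M, ⊤) := v
  let w' : Fin m → Γ(L, ⊤) := w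
  have hfv : ∀ j, f (v' j) = w' j := hv
  have hwl : LinearIndependent k w' := Fintype.linearIndependent_iff.2 fun c hc j => congrFun (hw c hc) j
  have hfw : (f ∘ v') = w' := funext hfv
  have hvl : LinearIndependent k v' := LinearIndependent.of_comp f (hfw ▸ hwl)
  refine ⟨by simpa using hvl.fintype_card_le_finrank, fun n s hs hx => ?_⟩
  obtain ⟨x, hx⟩ := hx
  let s' : Fin n → Γ(L, ⊤) := s
  have hxs : f x ∉ Submodule.span k (Set.range s') := fun hmem => by
    obtain ⟨c, hc⟩ := (Submodule.mem_span_range_iff_exists_fun k).1 hmem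
    exact hx c hc.symm
  have hle : Submodule.span k (Set.range v') ≤ (Submodule.span k (Set.range s')).comap f := by
    rw [Submodule.span_le]
    rintro _ ⟨j, rfl⟩
    obtain ⟨c, hc⟩ := hs j
    show f (v' j) ∈ Submodule.span k (Set.range s')
    rw [hfv]
    exact (Submodule.mem_span_range_iff_exists_fun k).2 ⟨c, hc.symm⟩
  have hli := hvl.finCons (x := (show Γ(M, ⊤) from x)) fun hmem => hxs (hle hmem)
  simpa using hli.fintype_card_le_finrank

include hdim in
/-- The reduced degree of a subsheaf of the canonical module, from Clifford bounds. -/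
theorem stable_bound {C : Divisor k X.functionField} (hC : IsCanonical k X.functionField C)
    (E : Divisor k X.functionField) (hE : E = C ∨ E.deg < C.deg) {m : ℕ} (hm2 : 2 ≤ m)
    (hmg : m + 2 ≤ Curv2.genus k X) (hml : m ≤ ell E) :
    C.deg * ((m : ℤ) - 1) < E.deg * ((Curv2.genus k X : ℤ) - 2) ∨
      (2 ≤ ell (C - E) ∧ E.deg < 2 * (ell E : ℤ) ∧
        (ell E : ℤ) = E.deg + 1 - Curv2.genus k X + ell (C - E)) := by
  have hK := isFunctionField (k := k) (X := X) hdim
  obtain ⟨hlC, hdC⟩ := Groth.Agent.FFLib.canonical_ell_deg hK hC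
  rw [genus_eq (k := k) hdim] at hlC hdC
  obtain ⟨hrr, hcl⟩ := LinStable.estimate hdim hC E (by omega)
  set g : ℤ := (Curv2.genus k X : ℤ) with hgdef
  set l : ℤ := (ell E : ℤ) with hldef
  have hmg' : (m : ℤ) + 2 ≤ g := by omega
  have hml' : (m : ℤ) ≤ l := by omega
  have hm2' : (2 : ℤ) ≤ m := by omega
  rcases hE with rfl | hE
  · refine Or.inl ?_
    rw [hdC]
    nlinarith
  rw [hdC] at hE
  rcases (show ell (C - E) = 0 ∨ ell (C - E) = 1 ∨ 2 ≤ ell (C - E) by omega) with h | h | h
  · refine Or.inl ?_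
    rw [hdC]
    have hd : E.deg = l + g - 1 := by omega
    rw [hd]
    nlinarith
  · refine Or.inl ?_
    rw [hdC]
    have hd : E.deg = l + g - 2 := by omega
    rw [hd]
    have hl : l ≤ g - 1 := by omega
    rcases (show l = g - 1 ∨ l ≤ g - 2 by omega) with hl' | hl'
    · rw [hl']; nlinarith
    · nlinarith
  · by_cases hd : 2 * l ≤ E.deg
    · refine Or.inl ?_
      rw [hdC]
      have hl : l ≤ g - 2 := by omega
      nlinarith
    · exact Or.inr ⟨h, by omega, hrr⟩

end CurveH0Lib.ProjStable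

end
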