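import Groth.Agent.GenusZeroLib.PointIdeal
import Groth.Agent.ProjDegLib.Criterion
import Groth.Agent.GenusZeroLib.PointDown
import Groth.Agent.GenusZeroLib.Degrees
import Groth.Agent.GrTildeLib.TensLift
import Groth.Agent.CurvLib.Divisor

/-!
# Twists of an invertible module by point ideals
-/

set_option autoImplicit false
universe u

open CategoryTheory CategoryTheory.Limits AlgebraicGeometry TopologicalSpace Opposite
open AmpleLib (GenAt GenOn res)
open TwistLib (genSet)
open DevissLib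

noncomputable section

namespace CurveH0Lib

open GenusZeroLib

variable {k : Type u} [Field k] {X : Scheme.{u}} [X.Over (Spec (CommRingCat.of k))]
  [IsProper (X ↘ Spec (CommRingCat.of k))] [IsIntegral X] (hdim : topologicalKrullDim X = 1)
  {P : X} (hP : IsClosed ({P} : Set X)) [IsDiscreteValuationRing (X.presheaf.stalk P)]

include hdim in
/-- The twist down is the tensor product with the ideal of the point. -/
theorem nonempty_iso_twist_down {L M : X.Modules} (hL : PicF.IsInvertible L) (hM : PicF.IsInvertible M)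
    (q : L ⟶ M) (hq : q ≠ 0)
    (hd : Curv2.deg k X L 1 = Curv2.deg k X M 1 -
      ((letI : Algebra k (X.residueField P) := Curv2.resAlgebra k X P; Module.finrank k (X.residueField P)) : ℤ))
    (hrange : ∀ (W : X.Opens) (σ : Γ(M, W)), (∃ t : Γ(L, W), q.app W t = σ) ↔ ∀ h : P ∈ W, ¬ GenAt M σ h) :
    Nonempty (CohB1.tensorMod M (ClSub.idealMod (ptIdeal hP)) ≅ L) := by
  obtain ⟨I, ⟨e⟩, hI, hId⟩ := exists_idealMod_iso (k := k) hP hdim
  haveI : Mono q := CurvLib.mono_of_ne_zero hL hM hq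
  let ι : I ⟶ Coh.structureModule X := e.hom ≫ ClSub.idealModι (ptIdeal hP)
  have hι : ∀ (V : X.Opens) (i : Γ(I, V)) (h : P ∈ V), P ∉ X.basicOpen (show Γ(X, V) from ι.app V i) := fun V i h => by
    refine (ptIdeal_app_eq_zero_iff hP _).mp ?_
    exact congrArg (fun f => f.app V (e.hom.app V i))
      (show ClSub.idealModι (ptIdeal hP) ≫ ClSub.toSubscheme (ptIdeal hP) = 0 from kernel.condition _)
  have hex : ∀ (V : X.Opens) (m : Γ(M, V)) (i : Γ(I, V)),
      ∃ t : Γ(L, V), q.app V t = (show Γ(X, V) from ι.app V i) • m := fun V m i =>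
    (hrange V _).mpr fun h hgn => by
      obtain ⟨U, g, hgU, hg⟩ := TwistLib.exists_genOn hM P
      let W : X.Opens := U ⊓ V
      obtain ⟨c, hc⟩ := (hg W inf_le_left).2 (res M inf_le_right m)
      dsimp only at hc
      have hPW : P ∈ W := ⟨hgU, h⟩
      have h1 : GenAt M (res M (inf_le_right : W ≤ V) ((show Γ(X, V) from ι.app V i) • m)) hPW :=
        (AmpleLib.genAt_res inf_le_right _ hPW).mpr hgn
      rw [AmpleLib.res_smul, ← hc, smul_smul,
        AmpleLib.genAt_smul_iff _ _ hPW ((hg.res inf_le_left).genAt hPW), X.basicOpen_mul] at h1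
      have h2 : P ∈ X.basicOpen (X.presheaf.map (homOfLE (inf_le_right : W ≤ V)).op
          (show Γ(X, V) from ι.app V i)) := h1.1
      rw [Scheme.basicOpen_res] at h2
      exact hι V i h h2.2
  choose b hb using hex
  have hinj : ∀ V, Function.Injective (q.app V) := fun V => QCohLib.app_injective_of_mono q V
  obtain ⟨φ, hφ⟩ := GrTildeLib.exists_tens_hom b
    (fun V m m' i => hinj V (by rw [map_add, hb, hb, hb, smul_add]))
    (fun V m i i' => hinj V (by
      rw [map_add, hb, hb, hb]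
      exact (congrArg (fun z : Γ(X, V) => z • m) (map_add (ι.app V).hom i i')).trans (add_smul _ _ _)))
    (fun V r m i => hinj V (by rw [QCohLib.app_smul, hb, hb, smul_smul, smul_smul, mul_comm]))
    (fun V r m i => hinj V (by
      rw [QCohLib.app_smul, hb, hb]
      exact (congrArg (fun z : Γ(X, V) => z • m) (QCohLib.app_smul ι V r i)).trans (mul_smul r _ m)))
    (fun V W h m i => hinj V (by
      refine (QCohLib.app_map q (homOfLE h) _).trans ?_
      rw [hb, hb]
      refine (AmpleLib.res_smul M h _ m).trans ?_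
      exact congrArg (fun z : Γ(X, V) => z • res M h m) (QCohLib.app_map ι (homOfLE h) i).symm))
  have hT : PicF.IsInvertible (CohB1.tensorMod M I) := AmpleThLib.shT_isInvertible hM hI
  have hTd : Curv2.deg k X (CohB1.tensorMod M I) 1 = Curv2.deg k X L 1 := by
    rw [deg_tensor k hdim hM hI, hd, hId]
    ring
  have hφ0 : φ ≠ 0 := by
    intro h0
    obtain ⟨U, g, hgU, hg⟩ := TwistLib.exists_genOn hM (genericPoint X)
    obtain ⟨U', g', hgU', hg'⟩ := TwistLib.exists_genOn hI (genericPoint X)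
    let W : X.Opens := U ⊓ U'
    have h1 := hb W (res M inf_le_left g) (res I inf_le_right g')
    rw [← hφ, h0] at h1
    have h2 : (show Γ(X, W) from ι.app W (res I inf_le_right g')) = 0 :=
      (hg W inf_le_left).1 (h1.symm.trans ((map_zero _).trans (zero_smul _ _).symm))
    haveI : Mono (ClSub.idealModι (ptIdeal hP)) := inferInstanceAs (Mono (kernel.ι _))
    haveI : Mono ι := mono_comp _ _
    have h3 : res I (inf_le_right : W ≤ U') g' = 0 :=
      QCohLib.app_injective_of_mono ι W (h2.trans (map_zero (ι.app W).hom).symm)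
    have h4 := (hg'.res (inf_le_right : W ≤ U')).genAt (show genericPoint X ∈ W from ⟨hgU, hgU'⟩)
    rw [h3] at h4
    exact one_ne_zero (h4.1 (a₁ := (1 : X.presheaf.stalk (genericPoint X))) (a₂ := 0) (by
      dsimp only
      rw [map_zero, smul_zero, zero_smul]))
  haveI : Mono φ := CurvLib.mono_of_ne_zero hT hL hφ0
  have e0 := CurvLib.euler_sub_eq_h0 (k := k) hT hL hdim hφ0
  obtain ⟨hQ, hQd⟩ := CurvLib.cokernel_data (k := k) hT hL hdim hφ0
  haveI : Epi φ := Abelian.epi_of_cokernel_π_eq_zero φ ((CurvLib.isZero_of_h0 (k := k) hQ hQd (by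
    simp only [Curv2.deg] at hTd
    omega)).eq_of_tgt _ _)
  have hiso : IsIso φ := isIso_of_mono_of_epi φ
  exact ⟨(CurvLib.tensorLeft' M).mapIso e.symm ≪≫ @asIso _ _ _ _ φ hiso⟩

omit [X.Over (Spec (CommRingCat.of k))] [IsProper (X ↘ Spec (CommRingCat.of k))] [IsIntegral X]
  [IsDiscreteValuationRing (X.presheaf.stalk P)] in
/-- A section of an invertible module misses generating at a point iff its germ lies in the maximal ideal. -/
theorem not_genAt_iff_mem {M : X.Modules} (hM : PicF.IsInvertible M) {W : X.Opens} (σ : Γ(M, W)) {x : X} (hx : x ∈ W) :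
    ¬ GenAt M σ hx ↔ M.presheaf.germ W x hx σ ∈
      IsLocalRing.maximalIdeal (X.presheaf.stalk x) • (⊤ : Submodule (X.presheaf.stalk x) (M.presheaf.stalk x)) := by
  obtain ⟨U, g, hxU, hg⟩ := TwistLib.exists_genOn hM x
  obtain ⟨a, ha⟩ := (hg.genAt hxU).2 (M.presheaf.germ W x hx σ)
  dsimp only at ha
  rw [← ha, ProjDegLib.mem_smul_top_iff (hg.genAt hxU), IsLocalRing.mem_maximalIdeal, mem_nonunits_iff,
    not_iff_not]
  constructor
  · intro h
    obtain ⟨c, hc⟩ := h.2 (M.presheaf.germ U x hxU g)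
    dsimp only at hc
    rw [← ha, smul_smul] at hc
    exact IsUnit.of_mul_eq_one_right c ((hg.genAt hxU).1 (hc.trans (one_smul _ _).symm))
  · intro hu
    have h := (hg.genAt hxU).comp hu.unit.mulRight.bijective
    refine Eq.mp (congrArg Function.Bijective (funext fun c => ?_)) h
    exact (mul_smul c a _).trans (congrArg (c • ·) ha)

omit [X.Over (Spec (CommRingCat.of k))] [IsProper (X ↘ Spec (CommRingCat.of k))] in
/-- Sections of the twist down generating at a point, seen in the module. -/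
theorem genAt_twist_down_iff {L M : X.Modules} (hL : PicF.IsInvertible L) (hM : PicF.IsInvertible M) (q : L ⟶ M)
    (hrange : ∀ (W : X.Opens) (σ : Γ(M, W)), (∃ t : Γ(L, W), q.app W t = σ) ↔ ∀ h : P ∈ W, ¬ GenAt M σ h)
    {Q : X} (hQP : Q ≠ P → ∃ W : X.Opens, Q ∈ W ∧ P ∉ W) (t : Γ(L, ⊤)) :
    GenAt L t (show Q ∈ (⊤ : X.Opens) from trivial) ↔
      (Q ≠ P → GenAt M (q.app ⊤ t) (show Q ∈ (⊤ : X.Opens) from trivial)) ∧
      (Q = P → M.presheaf.germ ⊤ Q trivial (q.app ⊤ t) ∉
        IsLocalRing.maximalIdeal (X.presheaf.stalk Q) ^ 2 • (⊤ : Submodule (X.presheaf.stalk Q) (M.presheaf.stalk Q))) := by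
  obtain ⟨U₁, e, hQU₁, he⟩ := TwistLib.exists_genOn hL Q
  obtain ⟨U₂, g, hQU₂, hg⟩ := TwistLib.exists_genOn hM Q
  let O := X.presheaf.stalk Q
  let f := ((DevissLib.St Q).map q).hom
  let e₁ : (DevissLib.St Q).obj L := DevissLib.gm L Q hQU₁ e
  let g₁ : (DevissLib.St Q).obj M := DevissLib.gm M Q hQU₂ g
  have hge : Function.Bijective fun c : O => c • e₁ := he.genAt hQU₁
  have hgg : Function.Bijective fun c : O => c • g₁ := hg.genAt hQU₂
  obtain ⟨a, ha⟩ := hgg.2 (f e₁)
  obtain ⟨b, hb⟩ := hge.2 (DevissLib.gm L Q (show Q ∈ (⊤ : X.Opens) from trivial) t)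
  dsimp only at ha hb
  have hqt : DevissLib.gm M Q (show Q ∈ (⊤ : X.Opens) from trivial) (q.app ⊤ t) = (b * a) • g₁ := by
    rw [← DevissLib.gm_app, ← hb, map_smul]
    exact (congrArg (b • ·) ha.symm).trans (smul_smul b a g₁)
  have hlift : ∀ (W : X.Opens) (hQW : Q ∈ W) (σ : Γ(M, W)), (∀ h : P ∈ W, ¬ GenAt M σ h) → ∀ c : O,
      DevissLib.gm M Q hQW σ = c • g₁ → a ∣ c := by
    intro W hQW σ hσ c hc
    obtain ⟨s, hs⟩ := (hrange W σ).2 hσ
    obtain ⟨d, hd⟩ := hge.2 (DevissLib.gm L Q hQW s)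
    refine Dvd.intro_left d (hgg.1 ?_)
    dsimp only at hd ⊢
    rw [← hc, ← hs, ← DevissLib.gm_app, ← hd, map_smul]
    exact (smul_smul d a g₁).symm.trans (congrArg (d • ·) ha)
  have hL' : GenAt L t (show Q ∈ (⊤ : X.Opens) from trivial) ↔ IsUnit b := by
    rw [← not_iff_not, not_genAt_iff_mem hL, ← mem_nonunits_iff, ← IsLocalRing.mem_maximalIdeal]
    refine Iff.trans (Iff.of_eq (congrArg (· ∈ _) hb.symm)) ?_
    exact ProjDegLib.mem_smul_top_iff (he.genAt hQU₁) _ _
  have hM' : GenAt M (q.app ⊤ t) (show Q ∈ (⊤ : X.Opens) from trivial) ↔ IsUnit (b * a) := by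
    rw [← not_iff_not, not_genAt_iff_mem hM, ← mem_nonunits_iff, ← IsLocalRing.mem_maximalIdeal]
    refine Iff.trans (Iff.of_eq (congrArg (· ∈ _) hqt)) ?_
    exact ProjDegLib.mem_smul_top_iff (hg.genAt hQU₂) _ _
  rw [hL']
  by_cases hne : Q = P
  · subst hne
    have hsq : (M.presheaf.germ ⊤ Q trivial (q.app ⊤ t) ∈ IsLocalRing.maximalIdeal O ^ 2 •
        (⊤ : Submodule O (M.presheaf.stalk Q))) ↔ b * a ∈ IsLocalRing.maximalIdeal O ^ 2 :=
      (Iff.of_eq (congrArg (· ∈ _) hqt)).trans (ProjDegLib.mem_smul_top_iff (hg.genAt hQU₂) _ _)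
    rw [hsq]
    have hnu : a ∈ IsLocalRing.maximalIdeal O := by
      have h := (hrange U₁ (q.app U₁ e)).1 ⟨e, rfl⟩ hQU₁
      rw [not_genAt_iff_mem hM] at h
      have hqe : M.presheaf.germ U₁ Q hQU₁ (q.app U₁ e) = a • g₁ := (DevissLib.gm_app _ _ _ _).symm.trans ha.symm
      exact (ProjDegLib.mem_smul_top_iff (hg.genAt hQU₂) _ _).1 (hqe ▸ h)
    have hle : IsLocalRing.maximalIdeal O ≤ Ideal.span {a} := by
      intro c hc
      rw [Ideal.mem_span_singleton]
      obtain ⟨V, hQV, r, rfl⟩ := TopCat.Presheaf.exists_germ_eq X.presheaf (x := Q) c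
      let W : X.Opens := V ⊓ U₂
      have hQW : Q ∈ W := ⟨hQV, hQU₂⟩
      have hgm : DevissLib.gm M Q hQW ((X.presheaf.map (homOfLE (inf_le_left : W ≤ V)).op r) • res M inf_le_right g) =
          X.presheaf.germ V Q hQV r • g₁ := by
        rw [DevissLib.gm_smul, DevissLib.gm_map, TopCat.Presheaf.germ_res_apply]
      refine hlift W hQW _ (fun h => ?_) _ hgm
      rw [not_genAt_iff_mem hM]
      exact (congrArg (· ∈ _) hgm).mpr ((ProjDegLib.mem_smul_top_iff (hg.genAt hQU₂) _ _).2 hc)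
    have hm : IsLocalRing.maximalIdeal O = Ideal.span {a} :=
      le_antisymm hle ((Ideal.span_singleton_le_iff_mem _).2 hnu)
    have ha0 : a ≠ 0 := fun h0 => IsDiscreteValuationRing.not_a_field O (by rw [hm, h0, Ideal.span_singleton_eq_bot])
    refine ⟨fun hu => ⟨fun h => (h rfl).elim, fun _ h => ?_⟩, fun ⟨_, h⟩ => ?_⟩
    · rw [pow_two, hm, Ideal.span_singleton_mul_span_singleton, Ideal.mem_span_singleton] at h
      have h' := (mul_dvd_mul_iff_right ha0).1 h
      exact (IsLocalRing.mem_maximalIdeal _).1 hnu (isUnit_of_dvd_unit h' hu)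
    · by_contra hu
      refine h rfl ?_
      rw [pow_two]
      exact Ideal.mul_mem_mul ((IsLocalRing.mem_maximalIdeal _).2 hu) hnu
  · obtain ⟨W, hQW, hPW⟩ := hQP hne
    have hau : IsUnit a := by
      obtain ⟨c, hc⟩ : a ∣ 1 := by
        refine hlift (W ⊓ U₂) ⟨hQW, hQU₂⟩ (res M inf_le_right g) (fun h => absurd h.1 hPW) 1 ?_
        rw [DevissLib.gm_map, one_smul]
      exact IsUnit.of_mul_eq_one c hc.symm
    refine ⟨fun hu => ⟨fun _ => hM'.2 (hu.mul hau), fun h => absurd h hne⟩, fun ⟨h, _⟩ => ?_⟩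
    exact isUnit_of_mul_isUnit_left (hM'.1 (h hne))

end CurveH0Lib

end
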