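import Groth.Agent.CurveH0Lib.VeryAmple
import Groth.Agent.CurveH0Lib.PointDiv
import Groth.Agent.CurveH0Lib.DegBound
import Groth.Agent.FibVALib.Map
import Groth.Agent.CohCmpLib.PuSec
import Groth.Agent.VeryAmpleLib.Bc
import Groth.Agent.CurveAmpLib.Affine
import Groth.Agent.SerreVanLib.CurveAmple
import Groth.Agent.S1535
import Groth.Agent.S1611

/-!
# The canonical embedding and base change to the algebraic closure
-/

set_option autoImplicit false
set_option linter.style.haveILetI false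
set_option linter.unusedSectionVars false
universe u

open CategoryTheory CategoryTheory.Limits AlgebraicGeometry TopologicalSpace Opposite
open TwistLib (genSet)
open KFlatLib (pb puSec)
open GenusZeroLib (kmod e0k ρ)

noncomputable section

namespace CurveH0Lib

theorem congr_puSec {X Y : Scheme.{u}} {f f' : X ⟶ Y} (h : f = f') (M : Y.Modules) (c : Γ(M, ⊤)) :
    ((Scheme.Modules.pullbackCongr h).hom.app M).app ⊤ (puSec f (U := ⊤) c) = puSec f' (U := ⊤) c := by
  subst h
  rw [show Scheme.Modules.pullbackCongr (rfl : f = f) = Iso.refl _ from rfl]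
  rfl

section Pencils

variable {k : Type u} [Field k] [IsAlgClosed k] {X : Scheme.{u}} [X.Over (Spec (CommRingCat.of k))] [IsIntegral X]
  [Smooth (X ↘ Spec (CommRingCat.of k))] [IsProper (X ↘ Spec (CommRingCat.of k))]
  (hdim : topologicalKrullDim X = 1)

attribute [local instance] CurveDualLib.algFF

include hdim in
/-- The drop condition for the differentials is the absence of a pencil of degree two. -/
theorem omega_drop_iff_no_pencil (hg : 1 ≤ Curv2.genus k X) :
    (∀ (P Q : X) (hP : IsClosed ({P} : Set X)) (hQ : IsClosed ({Q} : Set X)),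
      Module.finrank k (Coh.HH X (CohB1.tensorMod (Omega.sheaf (X ↘ Spec (CommRingCat.of k))) (CohB1.tensorMod
        (ClSub.idealMod (Scheme.IdealSheafData.vanishingIdeal ⟨{P}, hP⟩))
        (ClSub.idealMod (Scheme.IdealSheafData.vanishingIdeal ⟨{Q}, hQ⟩)))) 0) + 2 =
        Module.finrank k (Coh.HH X (Omega.sheaf (X ↘ Spec (CommRingCat.of k))) 0)) ↔
    ¬ ∃ L : X.Modules, PicF.IsInvertible L ∧ Curv2.deg k X L 1 = 2 ∧ Module.finrank k (Coh.HH X L 0) = 2 := by
  classical
  have hK := CurveDualLib.isFunctionField (k := k) (X := X) hdim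
  have h0 := RRVanLib.finrank_h0_structure (k := k) (X := X)
  constructor
  · rintro h ⟨L, hL, hdL, hlL⟩
    obtain ⟨D, hD⟩ := ZetaCurveLib.exists_hasDiv (k := k) hdim hL
    have hpos : 0 < FunFld.ell D := by
      obtain ⟨_, σ, hσ, hDσ⟩ := hD
      rw [← CurveDualLib.finrank_h0_eq_ell hdim hL hσ hDσ]
      omega
    obtain ⟨z, hz, hE⟩ := Groth.Agent.FFLib.exists_effective_of_ell_pos hK.1 hpos
    obtain ⟨P, Q, hP, hQ, hPQ⟩ := exists_eq_two_points hdim hE (by
      rw [← (hD.add_div hdim h0 hz).deg hdim h0, hdL])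
    obtain ⟨_, σ, hσ, hDσ⟩ := hD.add_div hdim h0 hz
    rw [CurveDualLib.finrank_h0_eq_ell hdim hL hσ hDσ, hPQ] at hlL
    have := (omega_drop_iff hdim hP hQ).1 (h P Q hP hQ)
    omega
  · intro hno P Q hP hQ
    refine (omega_drop_iff hdim hP hQ).2 ?_
    by_contra hne
    obtain ⟨M, hM, σ, hσ, hDσ⟩ := ZetaCurveLib.exists_module (k := k) hdim h0
      (Finsupp.single (CurveDualLib.ptPlace (k := k) hdim hP) 1 + Finsupp.single (CurveDualLib.ptPlace (k := k) hdim hQ) 1)
    set E := Finsupp.single (CurveDualLib.ptPlace (k := k) hdim hP) (1 : ℤ) +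
      Finsupp.single (CurveDualLib.ptPlace (k := k) hdim hQ) 1 with hEdef
    haveI := Groth.Agent.S10976.result k X.functionField hK E
    have hpos : 0 < FunFld.ell E := Module.finrank_pos_iff_exists_ne_zero.2
      ⟨⟨1, fun R => by
        rw [map_one, ← WithZero.exp_zero, WithZero.exp_le_exp, Finsupp.add_apply, Finsupp.single_apply,
          Finsupp.single_apply]
        split_ifs <;> norm_num⟩, fun h => one_ne_zero (congrArg Subtype.val h)⟩
    have hdM : Curv2.deg k X M 1 = 2 := by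
      rw [ZetaCurveLib.HasDiv.deg hdim h0 ⟨hM, σ, hσ, hDσ⟩, hEdef, Groth.Agent.FFLib.deg_add, FunFld.Divisor.deg,
        FunFld.Divisor.deg, Finsupp.sum_single_index (by simp), Finsupp.sum_single_index (by simp),
        Groth.Agent.FFLib.deg_eq_one hK, Groth.Agent.FFLib.deg_eq_one hK]
      norm_num
    have hle := h0_le_deg_algClosed k hdim hg 1 hM (by rw [hdM]; norm_num)
    have he := CurveDualLib.finrank_h0_eq_ell hdim hM hσ hDσ
    exact hno ⟨M, hM, hdM, by omega⟩

end Pencils

variable (k : Type u) [Field k] (X : Scheme.{u}) [X.Over (Spec (CommRingCat.of k))]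
  [IsProper (X ↘ Spec (CommRingCat.of k))] [Smooth (X ↘ Spec (CommRingCat.of k))]
  [GeometricallyConnected (X ↘ Spec (CommRingCat.of k))] (hdim : topologicalKrullDim X = 1)

attribute [local instance] VeryAmpleLib.bcOver

include hdim in
theorem regular_bc : ∀ x : (Curv2.bc k X (AlgebraicClosure k)),
    IsRegularLocalRing ((Curv2.bc k X (AlgebraicClosure k)).presheaf.stalk x) := fun x => by
  haveI := (CurveDualLib.bcData k X hdim).smooth
  obtain ⟨_, _, _, _, _, _⟩ := CurveDualLib.bcData k X hdim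
  exact Groth.Agent.S1535.result (AlgebraicClosure k) (Curv2.bc k X (AlgebraicClosure k)) x

/-- Lifting a morphism to projective space along the base change. -/
theorem exists_lift {n : ℕ} (i : X ⟶ CohB1.ProjSpace n k)
    (hi : i ≫ CohB1.ProjSpace.toSpec n k = X ↘ Spec (CommRingCat.of k)) :
    ∃ (j : CohB1.ProjSpace n (AlgebraicClosure k) ⟶ CohB1.ProjSpace n k)
      (_ : IsPullback j (CohB1.ProjSpace.toSpec n (AlgebraicClosure k)) (CohB1.ProjSpace.toSpec n k)
        (Spec.map (CommRingCat.ofHom (algebraMap k (AlgebraicClosure k)))))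
      (r' : Curv2.bc k X (AlgebraicClosure k) ⟶ CohB1.ProjSpace n (AlgebraicClosure k))
      (Φ : pb (Curv2.bcFst k X (AlgebraicClosure k)) (pb i (Twist.twistProjSpace n k 1)) ≅
        pb r' (Twist.twistProjSpace n (AlgebraicClosure k) 1)),
      r' ≫ CohB1.ProjSpace.toSpec n (AlgebraicClosure k) =
          Curv2.bc k X (AlgebraicClosure k) ↘ Spec (CommRingCat.of (AlgebraicClosure k)) ∧
      IsPullback (Curv2.bcFst k X (AlgebraicClosure k)) r' i j ∧
      ∀ l, Φ.hom.app ⊤ (puSec (Curv2.bcFst k X (AlgebraicClosure k)) (U := ⊤)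
          (puSec i (U := ⊤) (ProjUP.coord n k l))) =
        puSec r' (U := ⊤) (ProjUP.coord n (AlgebraicClosure k) l) := by
  let K := AlgebraicClosure k
  let g := Curv2.bcFst k X K
  obtain ⟨j, hj, θ, hθ⟩ := FibVALib.exists_baseChange n (algebraMap k K)
  let r' := hj.lift (g ≫ i) (Curv2.bc k X K ↘ Spec (CommRingCat.of K))
    (by rw [Category.assoc, hi]; exact (VeryAmpleLib.isPullback_bc k X K).w)
  have hfst : r' ≫ j = g ≫ i := hj.lift_fst _ _ _
  have hsnd : r' ≫ CohB1.ProjSpace.toSpec n K = Curv2.bc k X K ↘ Spec (CommRingCat.of K) := hj.lift_snd _ _ _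
  have hsq : IsPullback g r' i j := IsPullback.of_bot (by rw [hsnd, hi]; exact VeryAmpleLib.isPullback_bc k X K)
    hfst.symm hj
  let O1 := Twist.twistProjSpace n k 1
  let Φ : pb g (pb i O1) ≅ pb r' (Twist.twistProjSpace n K 1) :=
    (Scheme.Modules.pullbackComp g i).app O1 ≪≫ (Scheme.Modules.pullbackCongr hfst.symm).app O1 ≪≫
      ((Scheme.Modules.pullbackComp r' j).app O1).symm ≪≫ (Scheme.Modules.pullback r').mapIso θ
  refine ⟨j, hj, r', Φ, hsnd, hsq, fun l => ?_⟩
  let c : Γ(O1, ⊤) := ProjUP.coord n k l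
  have s1 : ((Scheme.Modules.pullbackComp g i).hom.app O1).app ⊤ (puSec g (U := ⊤) (puSec i (U := ⊤) c)) =
      puSec (g ≫ i) (U := ⊤) c := CohCmpLib.pullbackComp_puSec g i O1 c
  have s2 := congr_puSec hfst.symm O1 c
  have s3 : ((Scheme.Modules.pullbackComp r' j).inv.app O1).app ⊤ (puSec (r' ≫ j) (U := ⊤) c) =
      puSec r' (U := ⊤) (puSec j (U := ⊤) c) := by
    refine Eq.trans (congrArg _ (CohCmpLib.pullbackComp_puSec r' j O1 c).symm) ?_
    exact congr(Scheme.Modules.Hom.app $((Scheme.Modules.pullbackComp r' j).hom_inv_id_app O1) ⊤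
      (puSec r' (U := ⊤) (puSec j (U := ⊤) c)))
  have s4 : ((Scheme.Modules.pullback r').map θ.hom).app ⊤ (puSec r' (U := ⊤) (puSec j (U := ⊤) c)) =
      puSec r' (U := ⊤) (ProjUP.coord n K l) := by
    have h := (KFlatLib.puSec_natural r' θ.hom (puSec j (U := ⊤) c)).trans (congrArg (puSec r') (hθ l))
    exact h
  refine Eq.trans ?_ s4
  refine congrArg (((Scheme.Modules.pullback r').map θ.hom).app ⊤) ?_
  refine Eq.trans (congrArg (((Scheme.Modules.pullbackComp r' j).inv.app O1).app ⊤) ?_) s3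
  exact (congrArg (((Scheme.Modules.pullbackCongr hfst.symm).hom.app O1).app ⊤) s1).trans s2

include hdim in
/-- The differentials embed iff they have no pencil of degree two over the algebraic closure. -/
theorem omega_veryAmple_iff (hg : 2 ≤ Curv2.genus k X) :
    (∃ (n : ℕ) (i : X ⟶ CohB1.ProjSpace n k), IsClosedImmersion i ∧
        i ≫ CohB1.ProjSpace.toSpec n k = X ↘ Spec (CommRingCat.of k) ∧
        Nonempty ((Scheme.Modules.pullback i).obj (Twist.twistProjSpace n k 1) ≅
          Omega.sheaf (X ↘ Spec (CommRingCat.of k)))) ↔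
      ¬ ∃ L : (Curv2.bc k X (AlgebraicClosure k)).Modules, PicF.IsInvertible L ∧
          Curv2.deg (AlgebraicClosure k) (Curv2.bc k X (AlgebraicClosure k)) L 1 = 2 ∧
          Module.finrank (AlgebraicClosure k) (Coh.HH (Curv2.bc k X (AlgebraicClosure k)) L 0) = 2 := by
  classical
  obtain ⟨hgi, hint, hprop, hsm, hint', hd'⟩ := CurveDualLib.bcData k X hdim
  let K := AlgebraicClosure k
  let g := Curv2.bcFst k X K
  have hg' : 1 ≤ Curv2.genus K (Curv2.bc k X K) := by rw [VeryAmpleLib.genus_bc k X K]; omega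
  have hreg' := regular_bc k X hdim
  obtain ⟨eΩ⟩ := CurveDualLib.nonempty_omega_bc k X
  obtain ⟨Ω, hΩdef⟩ : ∃ Ω : X.Modules, Ω = Omega.sheaf (X ↘ Spec (CommRingCat.of k)) := ⟨_, rfl⟩
  rw [← hΩdef] at eΩ ⊢
  have hΩ : PicF.IsInvertible Ω := hΩdef ▸ CurveDualLib.omega_invertible_field k X hdim
  rw [← omega_drop_iff_no_pencil (k := K) hd' hg']
  constructor
  · rintro ⟨n, i, hi, hik, ⟨e⟩⟩
    obtain ⟨j, -, r', Φ, hr', hsq, -⟩ := exists_lift k X i hik
    haveI := hi
    haveI : IsClosedImmersion r' := MorphismProperty.of_isPullback hsq inferInstance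
    let τ := Φ.symm ≪≫ (Scheme.Modules.pullback g).mapIso e ≪≫ eΩ
    intro P Q hP hQ
    have h := (separates_iff (k := K) hd' hreg' (TwistLib.coord_isInvertible n K r')).1
      (separates_of_isClosedImmersion hd' hreg' r' hr') P Q hP hQ
    rwa [(CurvLib.hIso (k := K) τ 0).finrank_eq,
      (CurvLib.hIso (k := K) (HilbPolyLib.congrLeft τ _) 0).finrank_eq] at h
  · intro hdrop
    have hh : Module.finrank k (Coh.HH X Ω 0) = Curv2.genus k X := hΩdef ▸ CurveDualLib.h0_omega k X hdim
    have hdg : Curv2.deg k X Ω 1 = 2 * (Curv2.genus k X : ℤ) - 2 := hΩdef ▸ CurveDualLib.deg_omega k X hdim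
    haveI := CurvLib.isNoetherian k (X := X)
    haveI : X.IsSeparated := ⟨by rw [← terminal.comp_from (X ↘ Spec (CommRingCat.of k))]; infer_instance⟩
    letI := kmod k Ω
    haveI := CurvLib.finite_HH (k := k) (CurvLib.isCoh_of_isInvertible hΩ) 0
    haveI : Module.Finite k Γ(Ω, ⊤) := Module.Finite.equiv (e0k k Ω)
    obtain ⟨n, hn⟩ : ∃ n, Module.finrank k Γ(Ω, ⊤) = n + 1 :=
      ⟨Module.finrank k Γ(Ω, ⊤) - 1, by rw [← (e0k k Ω).finrank_eq]; omega⟩
    let b : Module.Basis (Fin (n + 1)) k Γ(Ω, ⊤) := Module.finBasisOfFinrankEq k Γ(Ω, ⊤) hn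
    let v : Fin (n + 1) → Γ(Ω, ⊤) := fun l => b l
    have hcov : ∀ x : X, ∃ l, x ∈ genSet hΩ (v l) := fun x => by
      obtain ⟨σ, hσ⟩ := Groth.Agent.S1611.exists_genAt_of_gg hΩ
        (hΩdef ▸ omega_isGloballyGenerated k hdim (by omega)) x
      refine TwistLib.exists_genAt_of_generatedBy hΩ v x (eq_top_iff.mpr ?_)
      rw [← TwistLib.span_of_genAt Ω (fun _ : Unit => σ) x (k := ()) hσ, Submodule.span_le]
      rintro _ ⟨-, rfl⟩
      conv => arg 2; rw [← b.sum_repr σ]
      rw [map_sum]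
      refine Submodule.sum_mem _ fun l _ => ?_
      have h1 : (Ω.presheaf.germ ⊤ x trivial).hom (b.repr σ l • b l) =
          X.presheaf.germ ⊤ x trivial (ρ k (b.repr σ l)) • Ω.presheaf.germ ⊤ x trivial (v l) :=
        AmpleLib.germ_smul Ω (W := ⊤) (ρ (X := X) k (b.repr σ l)) (v l) trivial
      rw [h1]
      exact Submodule.smul_mem _ _ (Submodule.subset_span ⟨l, rfl⟩)
    obtain ⟨r, τ, hr, hτ⟩ := exists_toPn_sections (X ↘ Spec (CommRingCat.of k)) hΩ v hcov
    refine ⟨n, r, ?_, hr, ⟨τ⟩⟩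
    obtain ⟨j, hj, r', Φ, hr', hsq, hΦ⟩ := exists_lift k X r hr
    let τ' := Φ.symm ≪≫ (Scheme.Modules.pullback g).mapIso τ ≪≫ eΩ
    have hL' := TwistLib.coord_isInvertible n K r'
    have hsep' := (separates_iff (k := K) hd' hreg' hL').2 fun P Q hP hQ => by
      rw [(CurvLib.hIso (k := K) τ' 0).finrank_eq,
        (CurvLib.hIso (k := K) (HilbPolyLib.congrLeft τ' _) 0).finrank_eq]
      exact hdrop P Q hP hQ
    let L₀ := pb r (Twist.twistProjSpace n k 1)
    let v₀ : Fin (n + 1) → Γ(L₀, ⊤) := fun l => puSec r (U := ⊤) (ProjUP.coord n k l)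
    letI := kmod k L₀
    let f : Γ(L₀, ⊤) →ₗ[k] Γ(Ω, ⊤) :=
      { toFun := fun t => τ.hom.app ⊤ t
        map_add' := fun a c => map_add (τ.hom.app ⊤).hom a c
        map_smul' := fun c t => Scheme.Modules.Hom.app_smul τ.hom (ρ k (X := X) c) t }
    have hli : LinearIndependent k v₀ := LinearIndependent.of_comp f (by
      rw [show f ∘ v₀ = v from funext hτ]
      exact b.linearIndependent)
    have hL₀ := TwistLib.coord_isInvertible n k r
    have hne : v₀ 0 ≠ 0 := hli.ne_zero 0
    have hA : CohB1.IsAmple L₀ := SerreVanLib.isAmple_of_deg_pos (k := k) hdim hL₀ (by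
      rw [CurvLib.deg_congr (k := k) τ 1, hdg]; omega)
    have hspan : ∀ t : Γ(pb r' (Twist.twistProjSpace n K 1), ⊤), ∃ c : Fin (n + 1) → K,
        t = ProjDegLib.psec K (Curv2.bc k X K ↘ Spec (CommRingCat.of K)) n r' c := fun t => by
      obtain ⟨c, hc⟩ := VeryAmpleLib.span_bc K hdim hL₀ v₀ hli (by
        rw [(CurvLib.hIso (k := k) τ 0).finrank_eq, (e0k k Ω).finrank_eq, hn]) (v₀ 0) hne
        (CurveAmpLib.isAffineOpen_genSet (X ↘ Spec (CommRingCat.of k)) hL₀ hA (v₀ 0)) (Φ.inv.app ⊤ t)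
      refine ⟨c, ?_⟩
      have h2 := congrArg (Φ.hom.app ⊤) hc
      rw [show Φ.hom.app ⊤ (Φ.inv.app ⊤ t) = t from congr(Scheme.Modules.Hom.app $(Φ.inv_hom_id) ⊤ t)] at h2
      refine h2.trans ((map_sum (Φ.hom.app ⊤).hom _ _).trans (Finset.sum_congr rfl fun l _ => ?_))
      refine (Scheme.Modules.Hom.app_smul Φ.hom _ _).trans ?_
      exact congrArg (ρ (X := Curv2.bc k X K) K (c l) • ·) (hΦ l)
    haveI : IsClosedImmersion r' := isClosedImmersion_of_separates hd' hreg' r' hr' hsep' hspan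
    haveI : IsProper (r ≫ CohB1.ProjSpace.toSpec n k) := by rw [hr]; infer_instance
    haveI : IsProper (CohB1.ProjSpace.toSpec n k) := ProjDegLib.toSpec_isProper k n
    haveI : IsProper r := IsProper.of_comp r (CohB1.ProjSpace.toSpec n k)
    haveI : (MorphismProperty.monomorphisms Scheme.{u}).DescendsAlong (@Surjective ⊓ @Flat ⊓ @QuasiCompact) :=
      MorphismProperty.diagonal_isomorphisms (C := Scheme.{u}) ▸ inferInstance
    have hφ : (@Surjective ⊓ @Flat ⊓ @QuasiCompact : MorphismProperty Scheme.{u}) j := by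
      let φ := Spec.map (CommRingCat.ofHom (algebraMap k K))
      haveI : Flat φ := Flat.SpecMap_iff.mpr (RingHom.flat_algebraMap_iff.mpr inferInstance)
      haveI : Surjective φ := ⟨fun x => ⟨default, Subsingleton.elim _ _⟩⟩
      exact ⟨⟨MorphismProperty.of_isPullback hj.flip inferInstance, MorphismProperty.of_isPullback hj.flip inferInstance⟩,
        MorphismProperty.of_isPullback hj.flip inferInstance⟩
    have hmono : Mono r := MorphismProperty.of_isPullback_of_descendsAlong (P := MorphismProperty.monomorphisms Scheme.{u})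
      (Q := (@Surjective ⊓ @Flat ⊓ @QuasiCompact)) hsq.flip hφ (inferInstanceAs (Mono r'))
    exact (IsClosedImmersion.iff_isProper_and_mono _).mpr ⟨inferInstance, hmono⟩

end CurveH0Lib

end
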